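import Groth.Agent.Sga7.H733.LevelTwoOfOpen

/-!
# S4049 from S4048 and S4050
-/

set_option autoImplicit false
universe u
open CategoryTheory CategoryTheory.Limits AlgebraicGeometry MonObj
open SGA7

namespace Groth.Agent.Sga7.H730.S4049Glue

/-- the statement of S4048 -/
def Stmt4048 : Prop :=
  ∀ (R K Ω : Type u) [CommRing R] [IsDomain R] [IsDiscreteValuationRing R] [Field K]
    [Algebra R K] [IsFractionRing R K] [Field Ω] [Algebra K Ω] [IsSepClosure K Ω]
    (W : ValuationSubring Ω) (_ : SGA7.LiesOver K R W)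
    (ℓ : ℕ) (_ : ℓ.Prime) (_ : (ℓ : IsLocalRing.ResidueField R) ≠ 0)
    (A : Over (Spec (CommRingCat.of K))) [GrpObj A] [IsProper A.hom] [GeometricallyIntegral A.hom],
    SGA7.HasSemistableReduction R K A ↔ SGA7.InertiaLevelTwoOn W A ℓ

/-- the statement of S4050 -/
def Stmt4050 : Prop :=
  ∀ (R K Ω : Type u) [CommRing R] [IsDomain R] [IsDiscreteValuationRing R] [Field K]
    [Algebra R K] [IsFractionRing R K] [Field Ω] [Algebra K Ω] [IsSepClosure K Ω]
    (W : ValuationSubring Ω) (_ : SGA7.LiesOver K R W)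
    (ℓ : ℕ) (_ : ℓ.Prime) (_ : (ℓ : IsLocalRing.ResidueField R) ≠ 0)
    (A : Over (Spec (CommRingCat.of K))) [GrpObj A] [IsProper A.hom] [GeometricallyIntegral A.hom],
    ∃ π' : OpenSubgroup (Ω ≃ₐ[K] Ω), ∀ (ν : ℕ) (σ τ : Ω ≃ₐ[K] Ω), σ ∈ π' → τ ∈ π' →
      SGA7.IsInertia W σ → SGA7.IsInertia W τ →
        ∀ x : SGA7.Pts Ω A, x ^ (ℓ ^ ν) = 1 → SGA7.dev σ (SGA7.dev τ x) = 1

theorem main (h48 : Stmt4048.{u}) (h50 : Stmt4050.{u}) (R K Ω : Type u) [CommRing R] [IsDomain R]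
    [IsDiscreteValuationRing R] [Field K]
    [Algebra R K] [IsFractionRing R K] [Field Ω] [Algebra K Ω] [IsSepClosure K Ω]
    (W : ValuationSubring Ω) (hW : SGA7.LiesOver K R W)
    (ℓ : ℕ) (hℓ : ℓ.Prime) (hℓp : (ℓ : IsLocalRing.ResidueField R) ≠ 0)
    (A : Over (Spec (CommRingCat.of K))) [GrpObj A] [IsProper A.hom] [GeometricallyIntegral A.hom] :
    SGA7.HasSemistableReduction R K A ↔ SGA7.InertiaUnipotentOn W A ℓ := by
  rw [h48 R K Ω W hW ℓ hℓ hℓp A]
  constructor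
  · exact H733.LevelTwoOfOpen.unipotentOn_of_levelTwoOn W A
  · intro h
    obtain ⟨π', hπ'⟩ := h50 R K Ω W hW ℓ hℓ hℓp A
    have hℓK : (ℓ : K) ≠ 0 := by
      intro h0
      apply hℓp
      have h1 : algebraMap R K (ℓ : R) = 0 := by rw [map_natCast, h0]
      have h2 : (ℓ : R) = 0 := (IsFractionRing.injective R K) (by rw [h1, map_zero])
      have h3 := congrArg (IsLocalRing.residue R) h2
      rwa [map_natCast, map_zero] at h3
    exact H733.LevelTwoOfOpen.levelTwoOn_of_unipotent W A hℓ hℓK π' hπ' h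

end Groth.Agent.Sga7.H730.S4049Glue
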