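import Groth.Agent.Sga7.H730.PicDv
import Groth.Prelude.Def_SGA7IX

/-!
# Translations on group schemes with integral total space

`tr a` = left translation by the section `a`; `ta a`, `td a` its action on the function field and on divisors;
`pw n`, `pd n` = pull back along `[n]`.
-/

set_option autoImplicit false
universe u

open CategoryTheory CategoryTheory.Limits MonoidalCategory CartesianMonoidalCategory AlgebraicGeometry TopologicalSpace
open scoped MonObj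

namespace Groth.Agent.Sga7.H730.Tr

open Dv

section Grp

variable {C : Type*} [Category C] [CartesianMonoidalCategory C] {G : C} [GrpObj G]

/-- Left translation by a section. -/
abbrev tr (a : 𝟙_ C ⟶ G) : G ⟶ G := (toUnit G ≫ a) * 𝟙 G

theorem comp_tr {T : C} (x : T ⟶ G) (a : 𝟙_ C ⟶ G) : x ≫ tr a = (toUnit T ≫ a) * x := by
  rw [tr, MonObj.comp_mul, Category.comp_id, ← Category.assoc, toUnit_unique (x ≫ toUnit G) (toUnit T)]

theorem tr_comp_tr (a b : 𝟙_ C ⟶ G) : tr a ≫ tr b = tr (b * a) := by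
  rw [comp_tr, tr, tr, MonObj.comp_mul, mul_assoc]

theorem tr_one : tr (1 : 𝟙_ C ⟶ G) = 𝟙 G := by
  rw [tr, MonObj.comp_one, one_mul]

/-- Left translation by a section as an isomorphism. -/
@[simps]
def trIso (a : 𝟙_ C ⟶ G) : G ≅ G where
  hom := tr a
  inv := tr a⁻¹
  hom_inv_id := by rw [tr_comp_tr, inv_mul_cancel, tr_one]
  inv_hom_id := by rw [tr_comp_tr, mul_inv_cancel, tr_one]

instance isIso_tr (a : 𝟙_ C ⟶ G) : IsIso (tr a) := (trIso a).isIso_hom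

theorem comp_pow_id {T : C} (x : T ⟶ G) (n : ℕ) : x ≫ (𝟙 G ^ n) = x ^ n := by
  rw [MonObj.comp_pow, Category.comp_id]

variable [BraidedCategory C] [IsCommMonObj G]

theorem tr_comp_pow (a : 𝟙_ C ⟶ G) (n : ℕ) : tr a ≫ (𝟙 G ^ n) = (𝟙 G ^ n) ≫ tr (a ^ n) := by
  rw [comp_pow_id, comp_tr, MonObj.comp_pow, tr, mul_pow]

end Grp

variable {S : Scheme.{u}} {G : Over S} [GrpObj G] [AlgebraicGeometry.IsIntegral G.left]

omit [AlgebraicGeometry.IsIntegral G.left] in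
lemma isIso_tr_left (a : 𝟙_ (Over S) ⟶ G) : IsIso (tr a).left :=
  (inferInstance : IsIso ((Over.forget S).map (tr a)))

lemma dom_tr (a : 𝟙_ (Over S) ⟶ G) : Dom (tr a).left :=
  haveI := isIso_tr_left a
  Dom.of_isIso _

/-- translation on the function field -/
noncomputable def ta (a : 𝟙_ (Over S) ⟶ G) : G.left.functionFieldˣ →* G.left.functionFieldˣ :=
  sgU (tr a).left (dom_tr a)

/-- translation of divisors -/
noncomputable def td (a : 𝟙_ (Over S) ⟶ G) : Dvs G.left →* Dvs G.left := pl (tr a).left (dom_tr a)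

variable (G) in
/-- `[n]^*` on the function field -/
noncomputable def pw (n : ℕ) (hn : Dom (𝟙 G ^ n : G ⟶ G).left) : G.left.functionFieldˣ →* G.left.functionFieldˣ :=
  sgU (𝟙 G ^ n : G ⟶ G).left hn

variable (G) in
/-- `[n]^*` on divisors -/
noncomputable def pd (n : ℕ) (hn : Dom (𝟙 G ^ n : G ⟶ G).left) : Dvs G.left →* Dvs G.left :=
  pl (𝟙 G ^ n : G ⟶ G).left hn

lemma ta_one (φ : G.left.functionFieldˣ) : ta (1 : 𝟙_ (Over S) ⟶ G) φ = φ := by
  rw [ta, sgU_congr (show (tr (1 : 𝟙_ (Over S) ⟶ G)).left = 𝟙 _ by rw [tr_one]; rfl) _ Dom.id, sgU_id]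

lemma td_one (D : Dvs G.left) : td (1 : 𝟙_ (Over S) ⟶ G) D = D := by
  rw [td, pl_congr (show (tr (1 : 𝟙_ (Over S) ⟶ G)).left = 𝟙 _ by rw [tr_one]; rfl) _ Dom.id, pl_id]

lemma ta_mul (a b : 𝟙_ (Over S) ⟶ G) (φ : G.left.functionFieldˣ) : ta (b * a) φ = ta a (ta b φ) := by
  have h : (tr (b * a)).left = (tr a).left ≫ (tr b).left := by rw [← tr_comp_tr, Over.comp_left]
  rw [ta, sgU_congr h _ (Dom.comp (dom_tr a) (dom_tr b)), sgU_comp _ _ (dom_tr a) (dom_tr b)]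
  rfl

lemma td_mul (a b : 𝟙_ (Over S) ⟶ G) (D : Dvs G.left) : td (b * a) D = td a (td b D) := by
  have h : (tr (b * a)).left = (tr a).left ≫ (tr b).left := by rw [← tr_comp_tr, Over.comp_left]
  rw [td, pl_congr h _ (Dom.comp (dom_tr a) (dom_tr b)), pl_comp _ _ (dom_tr a) (dom_tr b)]
  rfl

lemma td_dv (a : 𝟙_ (Over S) ⟶ G) (φ : G.left.functionFieldˣ) : td a (dv φ) = dv (ta a φ) := pl_dv _ _ _

lemma pd_dv (n : ℕ) (hn : Dom (𝟙 G ^ n : G ⟶ G).left) (φ : G.left.functionFieldˣ) :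
    pd G n hn (dv φ) = dv (pw G n hn φ) := pl_dv _ _ _

variable [IsCommMonObj G]

lemma ta_pw (a : 𝟙_ (Over S) ⟶ G) (n : ℕ) (hn : Dom (𝟙 G ^ n : G ⟶ G).left) (φ : G.left.functionFieldˣ) :
    ta a (pw G n hn φ) = pw G n hn (ta (a ^ n) φ) := by
  have h : (tr a).left ≫ (𝟙 G ^ n : G ⟶ G).left = (𝟙 G ^ n : G ⟶ G).left ≫ (tr (a ^ n)).left := by
    rw [← Over.comp_left, tr_comp_pow, Over.comp_left]
  rw [ta, pw, ta, ← sgU_comp _ _ (dom_tr a) hn (Dom.comp (dom_tr a) hn),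
    sgU_congr h _ (Dom.comp hn (dom_tr _)), sgU_comp _ _ hn (dom_tr _)]

lemma td_pd (a : 𝟙_ (Over S) ⟶ G) (n : ℕ) (hn : Dom (𝟙 G ^ n : G ⟶ G).left) (D : Dvs G.left) :
    td a (pd G n hn D) = pd G n hn (td (a ^ n) D) := by
  have h : (tr a).left ≫ (𝟙 G ^ n : G ⟶ G).left = (𝟙 G ^ n : G ⟶ G).left ≫ (tr (a ^ n)).left := by
    rw [← Over.comp_left, tr_comp_pow, Over.comp_left]
  rw [td, pd, td, ← pl_comp _ _ (dom_tr a) hn (Dom.comp (dom_tr a) hn),
    pl_congr h _ (Dom.comp hn (dom_tr _)), pl_comp _ _ hn (dom_tr _)]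

end Groth.Agent.Sga7.H730.Tr
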