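import Groth.Agent.Sga67.TorsionLift
import Groth.Prelude.Def_SGA7IX
import Mathlib.FieldTheory.KrullTopology
import Mathlib.AlgebraicGeometry.Morphisms.FiniteType

/-!
# Stabilizers of geometric points are open
-/

set_option autoImplicit false
universe u
open CategoryTheory CategoryTheory.Limits AlgebraicGeometry MonObj
open Groth.Agent.Sga67.TorsionLift

namespace Groth.Agent.Sga7.H730.StabOpen

variable {K Ω : Type u} [Field K] [Field Ω] [Algebra K Ω]

/-- `x` is defined over a finite extension. -/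
theorem exists_finite [Algebra.IsAlgebraic K Ω] (A : Over (Spec (CommRingCat.of K))) [LocallyOfFiniteType A.hom]
    (x : SGA7.Pts Ω A) : ∃ E : IntermediateField K Ω, FiniteDimensional K E ∧
      ∀ σ : Ω ≃ₐ[K] Ω, σ ∈ E.fixingSubgroup → SGA7.galAct σ x = x := by
  classical
  obtain ⟨O, _, _, j, hj, hp⟩ := exists_chart A (x.left (IsLocalRing.closedPoint Ω))
  obtain ⟨f, hf⟩ := exists_factor (T := Ω) A j x hp
  have h1 : LocallyOfFiniteType (Spec.map (CommRingCat.ofHom (algebraMap K O))) := by
    have h2 : j.left ≫ A.hom = Spec.map (CommRingCat.ofHom (algebraMap K O)) := Over.w j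
    rw [← h2]
    infer_instance
  have h3 : (algebraMap K O).FiniteType := (HasRingHomProperty.Spec_iff (P := @LocallyOfFiniteType)).mp h1
  have h3' : Algebra.FiniteType K O := RingHom.finiteType_algebraMap.mp h3
  obtain ⟨s, hs⟩ := h3'
  let E : IntermediateField K Ω := IntermediateField.adjoin K (f '' (s : Set O))
  have hE : FiniteDimensional K E := by
    have : Finite (f '' (s : Set O)) := Set.Finite.to_subtype (s.finite_toSet.image _)
    exact IntermediateField.finiteDimensional_adjoin (fun y _ => Algebra.IsIntegral.isIntegral y)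
  refine ⟨E, hE, fun σ hσ => ?_⟩
  have h4 : (σ : Ω →ₐ[K] Ω).comp f = f := by
    apply AlgHom.ext_of_adjoin_eq_top hs
    intro o ho
    change σ (f o) = f o
    rw [IntermediateField.mem_fixingSubgroup_iff] at hσ
    exact hσ _ (IntermediateField.subset_adjoin K _ ⟨o, ho, rfl⟩)
  have h5 : spMap (σ : Ω →ₐ[K] Ω) ≫ spMap f ≫ j = spMap f ≫ j := by
    rw [← Category.assoc, spMap_comp, h4]
  rw [hf]
  exact h5

theorem isOpen_stab [Algebra.IsAlgebraic K Ω] (A : Over (Spec (CommRingCat.of K))) [LocallyOfFiniteType A.hom]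
    (x : SGA7.Pts Ω A) (U : Subgroup (Ω ≃ₐ[K] Ω)) (hU : ∀ σ, SGA7.galAct σ x = x → σ ∈ U) :
    IsOpen (U : Set (Ω ≃ₐ[K] Ω)) := by
  obtain ⟨E, _, hE⟩ := exists_finite A x
  exact Subgroup.isOpen_mono (fun σ hσ => hU σ (hE σ hσ)) E.fixingSubgroup_isOpen

end Groth.Agent.Sga7.H730.StabOpen
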