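import Groth.Agent.Sga7.H730.CycPts
import Groth.Agent.Sga7.H620.Generic

/-!
# The number of `l^n`-torsion `Ω`-points of an abelian variety over `K`
-/

set_option autoImplicit false
universe u
open CategoryTheory MonoidalCategory CartesianMonoidalCategory MonObj GrpObj AlgebraicGeometry Limits
open Groth.Agent.Sga7.H620.Growth

namespace Groth.Agent.Sga7.H730.TLPts

variable {K Ω : Type u} [Field K] [Field Ω] [Algebra K Ω] (A : Over (Spec (CommRingCat.of K))) [GrpObj A]

/-- points of the base change -/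
noncomputable def toPts : (𝟙_ (Over (Spec (CommRingCat.of Ω))) ⟶
    Red.bc (Spec.map (CommRingCat.ofHom (algebraMap K Ω))) A) →* SGA7.Pts Ω A where
  toFun x := H620.Generic.ptIso.hom ≫ (Sga3B.BcPts.bcMulEquiv (Spec.map (CommRingCat.ofHom (algebraMap K Ω))) _ A).symm x
  map_one' := by rw [map_one, comp_one]
  map_mul' x y := by rw [map_mul, comp_mul]

lemma toPts_injective : Function.Injective (toPts (K := K) (Ω := Ω) A) := by
  intro x y h
  exact (Sga3B.BcPts.bcMulEquiv (Spec.map (CommRingCat.ofHom (algebraMap K Ω))) _ A).symm.injective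
    ((cancel_epi (H620.Generic.ptIso (K := K) (Ω := Ω)).hom).mp h)

theorem TL_pts [IsSepClosed Ω] [IsCommMonObj A] [IsProper A.hom] [GeometricallyIntegral A.hom] (g : ℕ)
    (hg : topologicalKrullDim (Red.bc (Spec.map (CommRingCat.ofHom (algebraMap K Ω))) A).left = g) (l : ℕ)
    (hl : (l : K) ≠ 0) : TL (SGA7.Pts Ω A) l (2 * g) := by
  classical
  have hl0 : l ≠ 0 := by rintro rfl; exact hl Nat.cast_zero
  have i1 : IsProper (Red.bc (Spec.map (CommRingCat.ofHom (algebraMap K Ω))) A).hom :=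
    inferInstanceAs (IsProper (pullback.snd A.hom (Spec.map (CommRingCat.ofHom (algebraMap K Ω)))))
  have i2 : GeometricallyIntegral (Red.bc (Spec.map (CommRingCat.ofHom (algebraMap K Ω))) A).hom :=
    inferInstanceAs (GeometricallyIntegral (pullback.snd A.hom (Spec.map (CommRingCat.ofHom (algebraMap K Ω)))))
  refine ⟨1, fun n => ?_⟩
  have hln : ((l ^ n : ℕ) : Ω) ≠ 0 := by
    rw [Nat.cast_pow]
    refine pow_ne_zero _ (fun h0 => hl ?_)
    apply (algebraMap K Ω).injective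
    rw [map_natCast, h0, map_zero]
  have h1 := Etcore.AbTors.card_torsion (Red.bc (Spec.map (CommRingCat.ofHom (algebraMap K Ω))) A) g hg (l ^ n) hln
  have hpos : 0 < (l ^ n) ^ (2 * g) := pow_pos (pow_pos (Nat.pos_of_ne_zero hl0) _) _
  have hfin : Finite {x : Over.mk (𝟙 (Spec (CommRingCat.of Ω))) ⟶
      Red.bc (Spec.map (CommRingCat.ofHom (algebraMap K Ω))) A // x ^ (l ^ n) = 1} :=
    Nat.finite_of_card_ne_zero (by rw [h1]; exact hpos.ne')
  cases nonempty_fintype {x : Over.mk (𝟙 (Spec (CommRingCat.of Ω))) ⟶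
      Red.bc (Spec.map (CommRingCat.ofHom (algebraMap K Ω))) A // x ^ (l ^ n) = 1}
  let y : {x : Over.mk (𝟙 (Spec (CommRingCat.of Ω))) ⟶
      Red.bc (Spec.map (CommRingCat.ofHom (algebraMap K Ω))) A // x ^ (l ^ n) = 1} → SGA7.Pts Ω A :=
    fun x => toPts A x.1
  have hy : Function.Injective y := fun a b hab => Subtype.ext (toPts_injective A hab)
  refine ⟨Finset.univ.image y, ?_, ?_⟩
  · intro z hz
    obtain ⟨x, -, rfl⟩ := Finset.mem_image.mp hz
    have h2 := map_pow (toPts (K := K) (Ω := Ω) A) x.1 (l ^ n)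
    have h3 : (x.1 : 𝟙_ (Over (Spec (CommRingCat.of Ω))) ⟶
      Red.bc (Spec.map (CommRingCat.ofHom (algebraMap K Ω))) A) ^ (l ^ n) = 1 := x.2
    rw [h3, map_one] at h2
    exact h2.symm
  · rw [_root_.one_mul, Finset.card_image_of_injective _ hy, Finset.card_univ, ← Nat.card_eq_fintype_card, h1,
      ← pow_mul, _root_.mul_comm n]

/-- (OUT2) -/
theorem TL_W_Fix (R K Ω : Type u) [CommRing R] [IsDomain R] [IsDiscreteValuationRing R]
    [Field K] [Algebra R K] [IsFractionRing R K] [Field Ω] [Algebra K Ω] [IsSepClosure K Ω]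
    (hR : EtCoh.IsStrictlyHenselianLocalRing R) (ℓ : ℕ) (hℓ : ℓ.Prime) (hℓp : (ℓ : IsLocalRing.ResidueField R) ≠ 0)
    (A : Over (Spec (CommRingCat.of K))) [GrpObj A] [IsCommMonObj A] [IsProper A.hom] [GeometricallyIntegral A.hom]
    (hlev : ∀ (ν : ℕ) (σ τ : Ω ≃ₐ[K] Ω) (x : SGA7.Pts Ω A), x ^ (ℓ ^ ν) = 1 → SGA7.dev σ (SGA7.dev τ x) = 1)
    (g : ℕ) (hg : topologicalKrullDim (Red.bc (Spec.map (CommRingCat.ofHom (algebraMap K Ω))) A).left = g) :
    TL (↥(CycPts.WΩ A Ω ℓ) × ↥(CycPts.FixΩ A Ω)) ℓ (2 * g) := by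
  have : IsSepClosed Ω := IsSepClosure.sep_closed K
  have hlK : (ℓ : K) ≠ 0 := by
    have h1 := (H481.Tame.isUnit_of_residue_ne_zero hℓp).map (algebraMap R K)
    rw [map_natCast] at h1
    exact h1.ne_zero
  exact CycPts.TL_of_levelTwo R K Ω hR ℓ hℓ hℓp A hlev (2 * g) (TL_pts A g hg ℓ hlK)

end Groth.Agent.Sga7.H730.TLPts
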