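import Groth.Agent.Sga7.H730.Tr
import Groth.Agent.Sga7.H729.Dict

/-!
# Translations and base change

`G/S` group scheme, `f : S' ⟶ S`, `G' = Red.bc f G`, `pr : G' ⟶ G`.
* `bcs f x`: base change of a section.
* `tr_bcs`: `tr (bcs f x) ≫ pr = pr ≫ tr x`; `pow_pr`: `[n] ≫ pr = pr ≫ [n]`.
* `tw f σ`: for `σ : S' ⟶ S'` over `S`, the endomorphism `1 × σ` of `G'`; `tr_tw`.
-/

set_option autoImplicit false
universe u

open CategoryTheory CategoryTheory.Limits MonoidalCategory CartesianMonoidalCategory AlgebraicGeometry TopologicalSpace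
open scoped MonObj

namespace Groth.Agent.Sga7.H730.Bc

open Dv Tr Groth.Agent.Sga7.H729.Dict

variable {S S' : Scheme.{u}} (f : S' ⟶ S) (G : Over S) [GrpObj G]

/-- the projection -/
noncomputable abbrev pr : (Red.bc f G).left ⟶ G.left := pullback.fst G.hom f

/-- the base change of a section -/
noncomputable def bcs : (𝟙_ (Over S) ⟶ G) →* (𝟙_ (Over S') ⟶ Red.bc f G) :=
  (bcPts f G (𝟙_ (Over S'))).symm.toMonoidHom.comp (compHom (toUnit ((Over.map f).obj (𝟙_ (Over S')))) G)

lemma bcPts_bcs (x : 𝟙_ (Over S) ⟶ G) : bcPts f G _ (bcs f G x) = toUnit _ ≫ x :=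
  (bcPts f G (𝟙_ (Over S'))).apply_symm_apply _

variable {G}

/-- naturality of `bcPts` -/
lemma bcPts_comp {X Y : Over S'} (a : X ⟶ Y) (y : Y ⟶ Red.bc f G) :
    bcPts f G X (a ≫ y) = (Over.map f).map a ≫ bcPts f G Y y :=
  (Over.mapPullbackAdj f).homEquiv_naturality_left_symm a y

variable (G) in
/-- the projection as a morphism over `S` -/
noncomputable def prS : (Over.map f).obj (Red.bc f G) ⟶ G := bcPts f G _ (𝟙 _)

variable (G) in
lemma prS_left : (prS f G).left = pr f G := by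
  rw [prS, bcPts_left, Over.id_left, Category.id_comp]

lemma bcPts_eq {X : Over S'} (x : X ⟶ Red.bc f G) : bcPts f G X x = (Over.map f).map x ≫ prS f G := by
  rw [prS, ← bcPts_comp, Category.comp_id]

/-- the point attached to a section of the base change -/
lemma bcPts_tr (x' : 𝟙_ (Over S') ⟶ Red.bc f G) :
    bcPts f G _ (tr x') = ((Over.map f).map (toUnit (Red.bc f G)) ≫ bcPts f G _ x') * prS f G := by
  rw [tr, map_mul, bcPts_comp]
  rfl

/-- translations are compatible with base change -/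
lemma tr_bcs (x : 𝟙_ (Over S) ⟶ G) : (tr (bcs f G x)).left ≫ pr f G = pr f G ≫ (tr x).left := by
  have h1 : bcPts f G _ (tr (bcs f G x)) = prS f G ≫ tr x := by
    rw [bcPts_tr, bcPts_bcs, comp_tr, ← Category.assoc]
    congr 2
  have h2 := congrArg (fun g => g.left) h1
  rw [bcPts_left] at h2
  rw [h2]
  change (prS f G).left ≫ _ = _
  rw [prS_left]

lemma pow_pr (n : ℕ) : (𝟙 (Red.bc f G) ^ n : Red.bc f G ⟶ Red.bc f G).left ≫ pr f G =
    pr f G ≫ (𝟙 G ^ n : G ⟶ G).left := by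
  have h1 : bcPts f G _ (𝟙 (Red.bc f G) ^ n) = prS f G ≫ (𝟙 G ^ n) := by
    rw [map_pow, comp_pow_id]
    rfl
  have h2 := congrArg (fun g => g.left) h1
  rw [bcPts_left] at h2
  rw [h2]
  change (prS f G).left ≫ _ = _
  rw [prS_left]

section Twist

variable (σ : S' ⟶ S') (hσ : σ ≫ f = f)

variable (G) in
/-- the automorphism `1 × σ` of the base change -/
noncomputable def tw : (Red.bc f G).left ⟶ (Red.bc f G).left :=
  pullback.lift (pullback.fst G.hom f) (pullback.snd G.hom f ≫ σ) (by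
    rw [Category.assoc, hσ, pullback.condition])

@[reassoc (attr := simp)]
lemma tw_pr : tw f G σ hσ ≫ pr f G = pr f G := pullback.lift_fst _ _ _

@[reassoc (attr := simp)]
lemma tw_snd : tw f G σ hσ ≫ pullback.snd G.hom f = pullback.snd G.hom f ≫ σ := pullback.lift_snd _ _ _

lemma tw_hom : tw f G σ hσ ≫ (Red.bc f G).hom = (Red.bc f G).hom ≫ σ := pullback.lift_snd _ _ _

variable (G) in
/-- the same as a morphism over `S` -/
noncomputable def twS : (Over.map f).obj (Red.bc f G) ⟶ (Over.map f).obj (Red.bc f G) :=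
  Over.homMk (tw f G σ hσ) (by
    change tw f G σ hσ ≫ pullback.snd G.hom f ≫ f = pullback.snd G.hom f ≫ f
    rw [tw_snd_assoc, hσ])

lemma twS_prS : twS f G σ hσ ≫ prS f G = prS f G := by
  ext1
  rw [Over.comp_left, prS_left]
  exact tw_pr f σ hσ

/-- the morphism `σ` over `S` -/
noncomputable def sgm : (Over.map f).obj (𝟙_ (Over S')) ⟶ (Over.map f).obj (𝟙_ (Over S')) :=
  Over.homMk σ (by
    change σ ≫ 𝟙 _ ≫ f = 𝟙 _ ≫ f
    rw [Category.id_comp, hσ])

variable (G) in
/-- the action of `σ` on sections of the base change: `pr ∘ (σ x) = pr ∘ x ∘ σ` -/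
noncomputable def sact : (𝟙_ (Over S') ⟶ Red.bc f G) →* (𝟙_ (Over S') ⟶ Red.bc f G) :=
  ((bcPts f G (𝟙_ (Over S'))).symm.toMonoidHom.comp (compHom (sgm f σ hσ) G)).comp
    (bcPts f G (𝟙_ (Over S'))).toMonoidHom

lemma bcPts_sact (x : 𝟙_ (Over S') ⟶ Red.bc f G) :
    bcPts f G _ (sact f G σ hσ x) = sgm f σ hσ ≫ bcPts f G _ x :=
  (bcPts f G (𝟙_ (Over S'))).apply_symm_apply _

/-- translation by `σ x` and by `x` -/
lemma tr_tw (x : 𝟙_ (Over S') ⟶ Red.bc f G) :
    (tr (sact f G σ hσ x)).left ≫ tw f G σ hσ = tw f G σ hσ ≫ (tr x).left := by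
  apply pullback.hom_ext
  · have h1 : bcPts f G _ (tr (sact f G σ hσ x)) = twS f G σ hσ ≫ bcPts f G _ (tr x) := by
      rw [bcPts_tr, bcPts_tr, MonObj.comp_mul, twS_prS, bcPts_sact]
      congr 1
      rw [← Category.assoc, ← Category.assoc]
      congr 1
      ext1
      change (toUnit (Red.bc f G)).left ≫ σ = tw f G σ hσ ≫ (toUnit (Red.bc f G)).left
      rw [Over.toUnit_left]
      exact (tw_snd f σ hσ).symm
    have h2 := congrArg (fun g => g.left) h1
    rw [Over.comp_left, bcPts_left, bcPts_left] at h2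
    rw [Category.assoc, Category.assoc]
    change (tr (sact f G σ hσ x)).left ≫ tw f G σ hσ ≫ pr f G = _
    rw [tw_pr]
    exact h2
  · have h1 : (tr (sact f G σ hσ x)).left ≫ pullback.snd G.hom f = pullback.snd G.hom f := Over.w (tr (sact f G σ hσ x))
    have h2 : (tr x).left ≫ pullback.snd G.hom f = pullback.snd G.hom f := Over.w (tr x)
    rw [Category.assoc, Category.assoc, h2, tw_snd, ← Category.assoc, h1]

lemma pow_tw (n : ℕ) : (𝟙 (Red.bc f G) ^ n : Red.bc f G ⟶ Red.bc f G).left ≫ tw f G σ hσ =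
    tw f G σ hσ ≫ (𝟙 (Red.bc f G) ^ n : Red.bc f G ⟶ Red.bc f G).left := by
  apply pullback.hom_ext
  · rw [Category.assoc, Category.assoc]
    change _ ≫ tw f G σ hσ ≫ pr f G = _ ≫ _ ≫ pr f G
    rw [tw_pr, pow_pr, tw_pr_assoc]
  · have h1 : (𝟙 (Red.bc f G) ^ n : Red.bc f G ⟶ Red.bc f G).left ≫ pullback.snd G.hom f = pullback.snd G.hom f :=
      Over.w (𝟙 (Red.bc f G) ^ n : Red.bc f G ⟶ Red.bc f G)
    rw [Category.assoc, Category.assoc, h1, tw_snd, ← Category.assoc, h1]

end Twist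

end Groth.Agent.Sga7.H730.Bc
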