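import Mathlib.LinearAlgebra.LinearIndependent.Basic
import Mathlib.LinearAlgebra.Dimension.Constructions
import Mathlib.LinearAlgebra.Dimension.StrongRankCondition
import Mathlib.LinearAlgebra.Dimension.Finite
import Mathlib.LinearAlgebra.FreeModule.Finite.Matrix
import Mathlib.GroupTheory.Coset.Card
import Mathlib.GroupTheory.QuotientGroup.Basic
import Mathlib.GroupTheory.OrderOfElement
import Mathlib.Algebra.Group.Subgroup.Finite
import Mathlib.Data.Nat.Prime.Basic

/-!
# Counting with a pairing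

A finite commutative group `T` with a bimultiplicative pairing into the units of a field.
-/

set_option autoImplicit false

namespace Groth.Agent.Sga7.H730.Count

section

variable {F : Type*} [Field F]

theorem card_hom_le (P : Type*) [Monoid P] [Finite P] : Finite (P →* Fˣ) ∧ Nat.card (P →* Fˣ) ≤ Nat.card P := by
  classical
  have := Fintype.ofFinite P
  have hli : LinearIndependent F (fun f : P →* F => (f : P → F)) := linearIndependent_monoidHom P F
  have hfin : Finite (P →* F) := hli.finite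
  have := Fintype.ofFinite (P →* F)
  have h1 : Fintype.card (P →* F) ≤ Module.finrank F (P → F) := hli.fintype_card_le_finrank
  rw [Module.finrank_fintype_fun_eq_card] at h1
  have hinj : Function.Injective (fun f : P →* Fˣ => (Units.coeHom F).comp f) := by
    intro f g h
    ext x
    exact DFunLike.congr_fun h x
  refine ⟨Finite.of_injective _ hinj, (Nat.card_le_card_of_injective _ hinj).trans ?_⟩
  rw [Nat.card_eq_fintype_card, Nat.card_eq_fintype_card]
  exact h1

theorem card_le {P Q : Type*} [CommGroup P] [Finite P] [CommGroup Q] [Finite Q] (γ : Q →* (P →* Fˣ)) :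
    Nat.card Q ≤ Nat.card P * Nat.card γ.ker := by
  obtain ⟨hf, hc⟩ := card_hom_le (F := F) P
  have h1 : Nat.card γ.range * Nat.card γ.ker = Nat.card Q := by
    rw [← Nat.card_congr (QuotientGroup.quotientKerEquivRange γ).toEquiv, ← Subgroup.card_eq_card_quotient_mul_card_subgroup]
  rw [← h1]
  exact Nat.mul_le_mul_right _ ((Nat.card_le_card_of_injective _ Subtype.val_injective).trans hc)

/-- the right kernel is at most as large as the left kernel -/
theorem card_flip_ker_le {T : Type*} [CommGroup T] [Finite T] (e : T →* (T →* Fˣ)) :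
    Nat.card e.flip.ker ≤ Nat.card e.ker := by
  let γ : T →* (T ⧸ e.flip.ker →* Fˣ) :=
    { toFun := fun x => QuotientGroup.lift e.flip.ker (e x) (fun y hy => DFunLike.congr_fun hy x)
      map_one' := by
        ext y
        simp
      map_mul' := fun x x' => by
        ext y
        simp }
  have hγ : γ.ker ≤ e.ker := by
    intro x hx
    ext y
    have := DFunLike.congr_fun (show γ x = 1 from hx) (QuotientGroup.mk y)
    have h2 : e x y = 1 := this
    rw [h2]
    rfl
  have h1 := card_le γ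
  have h2 := Subgroup.card_eq_card_quotient_mul_card_subgroup e.flip.ker
  rw [h2] at h1
  have h3 : 0 < Nat.card (T ⧸ e.flip.ker) := Nat.card_pos
  have h4 := Nat.le_of_mul_le_mul_left h1 h3
  exact h4.trans (Nat.card_le_card_of_injective _ (Subgroup.inclusion_injective hγ))

end

variable {F : Type*} [Field F] {A : Type*} [CommGroup A] {Γ : Type*} (ρ : Γ → A →* A) (l : ℕ)

/-- the `l^n`-torsion -/
abbrev T (A : Type*) [CommGroup A] (l n : ℕ) : Subgroup A := (powMonoidHom (l ^ n) : A →* A).ker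

lemma mem_T {n : ℕ} {x : A} : x ∈ T A l n ↔ x ^ (l ^ n) = 1 := Iff.rfl

/-- the action on the `l^n`-torsion -/
def rT (n : ℕ) (σ : Γ) (x : T A l n) : T A l n :=
  ⟨ρ σ x.1, by rw [mem_T, ← map_pow, show x.1 ^ (l ^ n) = 1 from x.2, map_one]⟩

/-- the subgroup generated by all `σ z / z`, `z` of order dividing `l^n` -/
def Wn (n : ℕ) : Subgroup A := Subgroup.closure {a : A | ∃ (σ : Γ) (z : A), z ^ (l ^ n) = 1 ∧ a = ρ σ z / z}

/-- the fixed points in the `l^n`-torsion -/
def Fx (n : ℕ) : Subgroup A where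
  carrier := {y | y ^ (l ^ n) = 1 ∧ ∀ σ, ρ σ y = y}
  mul_mem' {a b} ha hb := ⟨by rw [mul_pow, ha.1, hb.1, one_mul], fun σ => by rw [map_mul, ha.2, hb.2]⟩
  one_mem' := ⟨one_pow _, fun σ => map_one _⟩
  inv_mem' {a} ha := ⟨by rw [inv_pow, ha.1, inv_one], fun σ => by rw [map_inv, ha.2]⟩

lemma mem_Fx {n : ℕ} {y : A} : y ∈ Fx ρ l n ↔ y ^ (l ^ n) = 1 ∧ ∀ σ, ρ σ y = y := Iff.rfl

lemma Wn_le (n : ℕ) : Wn ρ l n ≤ T A l n := by
  rw [Wn, Subgroup.closure_le]
  rintro _ ⟨σ, z, hz, rfl⟩
  change (ρ σ z / z) ^ (l ^ n) = 1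
  rw [div_pow, ← map_pow, hz, map_one, div_one]

variable {l}

/-- the elements of `W_n` are orthogonal to the fixed points -/
theorem e_eq_one_of_fixed {n : ℕ} (e : T A l n →* (T A l n →* Fˣ))
    (he : ∀ (σ : Γ) (x y : T A l n), e (rT ρ l n σ x) (rT ρ l n σ y) = e x y)
    (w y : T A l n) (hw : w.1 ∈ Wn ρ l n) (hy : ∀ σ, ρ σ y.1 = y.1) : e w y = 1 := by
  have hy' : ∀ σ, rT ρ l n σ y = y := fun σ => Subtype.ext (hy σ)
  have key : Wn ρ l n ≤ ((e.flip y).ker).map (T A l n).subtype := by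
    rw [Wn, Subgroup.closure_le]
    rintro _ ⟨σ, z, hz, rfl⟩
    refine ⟨rT ρ l n σ ⟨z, hz⟩ / ⟨z, hz⟩, ?_, rfl⟩
    change e (rT ρ l n σ ⟨z, hz⟩ / ⟨z, hz⟩) y = 1
    have h1 := he σ ⟨z, hz⟩ y
    rw [hy'] at h1
    rw [map_div, MonoidHom.div_apply, h1, div_self']
  obtain ⟨w', hw', hww'⟩ := key hw
  have : w' = w := Subtype.ext hww'
  rw [← this]
  exact hw'

theorem exists_bound [Group Γ] (hl : l.Prime) (hρ : ∀ (σ : Γ) (x : A), ρ σ (ρ σ⁻¹ x) = x)
    (hfin : ∀ n, Finite (T A l n)) (e : ∀ n, T A l n →* (T A l n →* Fˣ))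
    (he : ∀ (n : ℕ) (σ : Γ) (x y : T A l n), e n (rT ρ l n σ x) (rT ρ l n σ y) = e n x y)
    (B : ℕ) (hB : ∀ n, Nat.card (e n).ker ≤ B) :
    ∃ C : ℕ, ∀ n, Nat.card (T A l n) ≤ C * (Nat.card (Wn ρ l n) * Nat.card (Fx ρ l n)) := by
  refine ⟨Nat.card (T A l B), fun n => ?_⟩
  have := hfin n
  have := hfin B
  -- the orthogonal of `W`
  let Wt : Subgroup (T A l n) := (Wn ρ l n).subgroupOf (T A l n)
  let γ : T A l n →* (Wt →* Fˣ) := ((e n).comp Wt.subtype).flip
  have h1 : Nat.card (T A l n) ≤ Nat.card Wt * Nat.card γ.ker := card_le γ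
  have hWt : Nat.card Wt = Nat.card (Wn ρ l n) :=
    Nat.card_congr (Subgroup.subgroupOfEquivOfLe (Wn_le ρ l n)).toEquiv
  -- right kernel
  have hRK : Nat.card (e n).flip.ker ≤ B := (card_flip_ker_le (e n)).trans (hB n)
  have hexp : ∀ r : T A l n, r ∈ (e n).flip.ker → r.1 ^ (l ^ B) = 1 := by
    intro r hr
    have h2 : orderOf r ≤ B := by
      have h3 : orderOf (⟨r, hr⟩ : (e n).flip.ker) ≤ Nat.card (e n).flip.ker := orderOf_le_card
      rw [Subgroup.orderOf_mk] at h3
      exact h3.trans hRK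
    have h4 : r ^ (l ^ n) = 1 := Subtype.ext r.2
    obtain ⟨j, -, hj⟩ := (Nat.dvd_prime_pow hl).mp (orderOf_dvd_of_pow_eq_one h4)
    have h5 : l ^ j < l ^ B := by
      rw [← hj]
      exact h2.trans_lt (Nat.lt_pow_self hl.one_lt)
    have h6 : orderOf r ∣ l ^ B := by
      rw [hj]
      exact pow_dvd_pow _ ((Nat.pow_lt_pow_iff_right hl.one_lt).mp h5).le
    have h7 : r ^ (l ^ B) = 1 := orderOf_dvd_iff_pow_eq_one.mp h6
    exact congrArg Subtype.val h7
  have hV : ∀ y : T A l n, y ∈ γ.ker → ∀ σ : Γ, (rT ρ l n σ y / y) ∈ (e n).flip.ker := by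
    intro y hy σ
    have h2 : ∀ z : T A l n, e n (rT ρ l n σ z) y = e n z y := by
      intro z
      have hw : ρ σ z.1 / z.1 ∈ Wn ρ l n := Subgroup.subset_closure ⟨σ, z.1, z.2, rfl⟩
      have h3 : e n (rT ρ l n σ z / z) y = 1 :=
        DFunLike.congr_fun (show γ y = 1 from hy) ⟨rT ρ l n σ z / z, hw⟩
      rwa [map_div, MonoidHom.div_apply, div_eq_one] at h3
    have h4 : ∀ z : T A l n, e n z (rT ρ l n σ y) = e n z y := by
      intro z
      have h5 : rT ρ l n σ (rT ρ l n σ⁻¹ z) = z := Subtype.ext (hρ σ z.1)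
      have h6 := he n σ (rT ρ l n σ⁻¹ z) y
      rw [h5] at h6
      rw [h6, ← h2, h5]
    change (e n).flip (rT ρ l n σ y / y) = 1
    ext z : 1
    rw [MonoidHom.flip_apply, map_div, h4, div_self']
    rfl
  let φ : γ.ker →* Fx ρ l n :=
    { toFun := fun y => ⟨y.1.1 ^ (l ^ B), by
        rw [mem_Fx]
        refine ⟨?_, fun σ => ?_⟩
        · rw [← pow_mul, mul_comm, pow_mul, show y.1.1 ^ (l ^ n) = 1 from y.1.2, one_pow]
        · have h2 := hexp _ (hV y.1 y.2 σ)
          have h3 : (ρ σ y.1.1 / y.1.1) ^ (l ^ B) = 1 := h2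
          rw [div_pow, div_eq_one] at h3
          rw [map_pow, h3]⟩
      map_one' := Subtype.ext (by simp)
      map_mul' := fun y y' => Subtype.ext (by simp [mul_pow]) }
  have h8 : Nat.card γ.ker ≤ Nat.card (T A l B) * Nat.card (Fx ρ l n) := by
    have h9 := Subgroup.card_eq_card_quotient_mul_card_subgroup φ.ker
    rw [h9, mul_comm]
    refine Nat.mul_le_mul ?_ ?_
    · refine Nat.card_le_card_of_injective (fun y => (⟨y.1.1.1, ?_⟩ : T A l B)) ?_
      · have := congrArg Subtype.val (show φ y.1 = 1 from y.2)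
        exact this
      · intro y y' hyy
        exact Subtype.ext (Subtype.ext (Subtype.ext (congrArg (fun z : T A l B => z.1) hyy)))
    · have : Finite (Fx ρ l n) := Finite.of_injective
        (Subgroup.inclusion (show Fx ρ l n ≤ T A l n from fun y hy => hy.1)) (Subgroup.inclusion_injective _)
      rw [Nat.card_congr (QuotientGroup.quotientKerEquivRange φ).toEquiv]
      exact Nat.card_le_card_of_injective _ Subtype.val_injective
  calc Nat.card (T A l n) ≤ Nat.card Wt * Nat.card γ.ker := h1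
    _ ≤ Nat.card (Wn ρ l n) * (Nat.card (T A l B) * Nat.card (Fx ρ l n)) := by
        rw [hWt]
        exact Nat.mul_le_mul_left _ h8
    _ = _ := by ring

end Groth.Agent.Sga7.H730.Count
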