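import Groth.Agent.Sga7.H481.Tame
import Mathlib.FieldTheory.Galois.Profinite
import Mathlib.FieldTheory.Galois.Infinite
import Mathlib.RingTheory.RootsOfUnity.PrimitiveRoots
import Mathlib.Algebra.Group.Irreducible.Lemmas

/-!
# One element generates the tame `ℓ`-part of inertia

`R` strictly henselian DVR, `K = Frac R`, `Ω/K` separably closed and Galois, `ℓ` a prime invertible in `R`.
There is `τ ∈ Gal(Ω/K)` such that an open subgroup `U` containing `τ` and an `ℓ`-power of every element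
is everything.
-/

set_option autoImplicit false

universe u

namespace Groth.Agent.Sga7.H730.Cyc

variable (R K Ω : Type u) [CommRing R] [IsDomain R] [IsDiscreteValuationRing R]
  [Field K] [Algebra R K] [IsFractionRing R K] [Field Ω] [Algebra K Ω] [Algebra R Ω]
  [IsScalarTower R K Ω] [IsGalois K Ω] [IsSepClosed Ω]

omit [IsDiscreteValuationRing R] [IsGalois K Ω] [IsSepClosed Ω] in
include K in
lemma inj : Function.Injective (algebraMap R Ω) := by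
  rw [IsScalarTower.algebraMap_eq R K Ω]
  exact (algebraMap K Ω).injective.comp (IsFractionRing.injective R K)

lemma exists_root (ℓ : ℕ) [hℓ : Fact ℓ.Prime] (hu : IsUnit (ℓ : R)) (a : ℕ) (x : Ω) : ∃ z : Ω, z ^ (ℓ ^ a) = x := by
  have hne : NeZero ((ℓ ^ a : ℕ) : Ω) := by
    constructor
    have h1 : IsUnit ((ℓ : ℕ) : Ω) := by
      have := hu.map (algebraMap R Ω)
      rwa [map_natCast] at this
    rw [Nat.cast_pow]
    exact pow_ne_zero _ h1.ne_zero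
  exact IsSepClosed.exists_pow_nat_eq x (ℓ ^ a)

/-- some automorphism moves an `ℓ`-th root of the uniformizer -/
lemma exists_moved (ℓ : ℕ) [hℓ : Fact ℓ.Prime] (hu : IsUnit (ℓ : R)) {π : R} (hπ : Irreducible π) :
    ∃ (τ : Ω ≃ₐ[K] Ω) (z : Ω), z ^ ℓ = algebraMap R Ω π ∧ τ z ≠ z := by
  obtain ⟨z, hz⟩ := exists_root R Ω ℓ hu 1 (algebraMap R Ω π)
  rw [pow_one] at hz
  by_contra hcon
  push Not at hcon
  have h1 : ∀ τ : Ω ≃ₐ[K] Ω, τ z = z := fun τ => hcon τ z hz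
  obtain ⟨y, hy⟩ := (InfiniteGalois.mem_range_algebraMap_iff_fixed z).2 h1
  have h2 : y ^ ℓ = algebraMap R K π := by
    apply (algebraMap K Ω).injective
    rw [map_pow, hy, hz, ← IsScalarTower.algebraMap_apply]
  have h3 : IsIntegral R y := ⟨Polynomial.X ^ ℓ - Polynomial.C π, Polynomial.monic_X_pow_sub_C π hℓ.out.ne_zero,
    by rw [Polynomial.eval₂_sub, Polynomial.eval₂_pow, Polynomial.eval₂_X, Polynomial.eval₂_C, h2, sub_self]⟩
  obtain ⟨r, hr⟩ := IsIntegrallyClosed.isIntegral_iff.1 h3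
  have h4 : r ^ ℓ = π := by
    apply IsFractionRing.injective R K
    rw [map_pow, hr, h2]
  rw [← h4] at hπ
  exact not_irreducible_pow hℓ.out.ne_one hπ

variable {R K Ω}

/-- powers of `τ` realize the action of `σ` on the `ℓ^a`-th roots of `π` -/
lemma exists_pow (hR : EtCoh.IsStrictlyHenselianLocalRing R) (ℓ : ℕ) [hℓ : Fact ℓ.Prime] (hu : IsUnit (ℓ : R))
    {π : R} (hπ : Irreducible π) {τ : Ω ≃ₐ[K] Ω} {z : Ω} (hz : z ^ ℓ = algebraMap R Ω π) (hτ : τ z ≠ z)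
    (σ : Ω ≃ₐ[K] Ω) (a : ℕ) : ∃ m : ℕ, ∀ w : Ω, w ^ (ℓ ^ a) = algebraMap R Ω π → (τ ^ m) w = σ w := by
  have hR' : ∀ (t : Ω ≃ₐ[K] Ω) (r : R), t (algebraMap R Ω r) = algebraMap R Ω r := by
    intro t r
    rw [IsScalarTower.algebraMap_apply R K Ω, AlgEquiv.commutes]
  have hinj := inj R K Ω
  have : FaithfulSMul R Ω := (faithfulSMul_iff_algebraMap_injective R Ω).2 hinj
  have hπ0 : algebraMap R Ω π ≠ 0 := by rw [Ne, map_eq_zero_iff _ hinj]; exact hπ.ne_zero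
  have hua : ∀ a : ℕ, IsUnit ((ℓ ^ a : ℕ) : R) := fun a => by rw [Nat.cast_pow]; exact hu.pow a
  obtain ⟨w0, hw0⟩ := exists_root R Ω ℓ hu a (algebraMap R Ω π)
  have hw00 : w0 ≠ 0 := by
    rintro rfl
    rw [zero_pow (pow_ne_zero _ hℓ.out.ne_zero)] at hw0
    exact hπ0 hw0.symm
  obtain ⟨q, hq⟩ := H481.Tame.exists_root_act R K Ω hR (ℓ ^ a) (hua a) hπ.ne_zero hw0 τ
  obtain ⟨r, hr⟩ := H481.Tame.exists_root_act R K Ω hR (ℓ ^ a) (hua a) hπ.ne_zero hw0 σ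
  have hqp : (algebraMap R Ω q) ^ (ℓ ^ a) = 1 := by
    have h1 := congrArg (· ^ (ℓ ^ a)) hq
    simp only [mul_pow, ← map_pow τ, hw0, hR'] at h1
    exact (mul_eq_right₀ hπ0).mp h1.symm
  have hrp : (algebraMap R Ω r) ^ (ℓ ^ a) = 1 := by
    have h1 := congrArg (· ^ (ℓ ^ a)) hr
    simp only [mul_pow, ← map_pow σ, hw0, hR'] at h1
    exact (mul_eq_right₀ hπ0).mp h1.symm
  -- `q` is a primitive `ℓ^a`-th root of unity
  have hprim : IsPrimitiveRoot (algebraMap R Ω q) (ℓ ^ a) := by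
    rcases Nat.eq_zero_or_pos a with rfl | ha
    · rw [pow_zero] at hqp ⊢
      rw [pow_one] at hqp
      rw [hqp]
      exact IsPrimitiveRoot.one
    obtain ⟨b, rfl⟩ := Nat.exists_eq_succ_of_ne_zero ha.ne'
    rw [Nat.succ_eq_add_one] at *
    have h1 : orderOf (algebraMap R Ω q) = ℓ ^ (b + 1) := by
      apply orderOf_eq_prime_pow _ hqp
      intro h2
      -- `w0 ^ (ℓ ^ b)` is an `ℓ`-th root of `π`
      have h3 : (w0 ^ (ℓ ^ b)) ^ ℓ = algebraMap R Ω π := by rw [← pow_mul, ← pow_succ, hw0]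
      obtain ⟨c, hc⟩ := Sga4h.WildPro.exists_eq_mul R hR ℓ hu hπ0 hz h3
      apply hτ
      rw [hc, map_mul, hR', map_pow, hq, mul_pow, h2, one_mul]
    rw [← h1]
    exact IsPrimitiveRoot.orderOf _
  obtain ⟨m, -, hm⟩ := hprim.eq_pow_of_pow_eq_one hrp
  have hτm : ∀ j : ℕ, (τ ^ j) w0 = (algebraMap R Ω q) ^ j * w0 := by
    intro j
    induction j with
    | zero => rw [pow_zero, pow_zero, one_mul, AlgEquiv.one_apply]
    | succ j ih => rw [pow_succ', AlgEquiv.mul_apply, ih, map_mul, map_pow, hR', hq, pow_succ, mul_assoc]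
  refine ⟨m, fun w hw => ?_⟩
  obtain ⟨c, hc⟩ := Sga4h.WildPro.exists_eq_mul R hR (ℓ ^ a) (hua a) hπ0 hw hw0
  rw [hc, map_mul, map_mul, hR', hR', hτm, hr, hm]

/-- the main lemma -/
theorem eq_top (hR : EtCoh.IsStrictlyHenselianLocalRing R) (ℓ : ℕ) [hℓ : Fact ℓ.Prime] (hu : IsUnit (ℓ : R))
    {π : R} (hπ : Irreducible π) {τ : Ω ≃ₐ[K] Ω} {z : Ω} (hz : z ^ ℓ = algebraMap R Ω π) (hτ : τ z ≠ z)
    (U : Subgroup (Ω ≃ₐ[K] Ω)) (hU : IsOpen (U : Set (Ω ≃ₐ[K] Ω))) (hτU : τ ∈ U)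
    (hpow : ∀ s : Ω ≃ₐ[K] Ω, ∃ n : ℕ, s ^ (ℓ ^ n) ∈ U) : U = ⊤ := by
  rw [eq_top_iff]
  rintro σ -
  have hcl : (Subgroup.zpowers τ).topologicalClosure ≤ U :=
    Subgroup.topologicalClosure_minimal _ (by rwa [Subgroup.zpowers_le]) (Subgroup.isClosed_of_isOpen _ hU)
  -- the sets of approximations
  let t : ℕ → Set (Ω ≃ₐ[K] Ω) := fun a =>
    ((Subgroup.zpowers τ).topologicalClosure : Set (Ω ≃ₐ[K] Ω)) ∩
      {ρ | ∀ w : Ω, w ^ (ℓ ^ a) = algebraMap R Ω π → ρ w = σ w}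
  have hclosed : ∀ a, IsClosed (t a) := by
    intro a
    refine IsClosed.inter (Subgroup.isClosed_topologicalClosure _) ?_
    have : {ρ : Ω ≃ₐ[K] Ω | ∀ w : Ω, w ^ (ℓ ^ a) = algebraMap R Ω π → ρ w = σ w} =
        ⋂ (w : Ω) (_ : w ^ (ℓ ^ a) = algebraMap R Ω π), {ρ | ρ w = σ w} := by
      ext ρ
      simp
    rw [this]
    refine isClosed_iInter fun w => isClosed_iInter fun _ => ?_
    have h1 : IsClosed (MulAction.stabilizer (Ω ≃ₐ[K] Ω) w : Set (Ω ≃ₐ[K] Ω)) :=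
      Subgroup.isClosed_of_isOpen _ (stabilizer_isOpen_of_isIntegral w)
    have h2 : {ρ : Ω ≃ₐ[K] Ω | ρ w = σ w} = (fun ρ => σ⁻¹ * ρ) ⁻¹' (MulAction.stabilizer (Ω ≃ₐ[K] Ω) w) := by
      ext ρ
      change ρ w = σ w ↔ σ⁻¹ (ρ w) = w
      constructor
      · intro h
        rw [h, ← AlgEquiv.mul_apply, inv_mul_cancel, AlgEquiv.one_apply]
      · intro h
        have h3 := congrArg σ h
        rwa [← AlgEquiv.mul_apply, mul_inv_cancel, AlgEquiv.one_apply] at h3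
    rw [h2]
    exact h1.preimage (continuous_const_mul _)
  have hdec : ∀ a, t (a + 1) ⊆ t a := by
    intro a ρ hρ
    refine ⟨hρ.1, fun w hw => ?_⟩
    obtain ⟨w', hw'⟩ := exists_root R Ω ℓ hu 1 w
    rw [pow_one] at hw'
    have h1 := hρ.2 w' (by rw [pow_succ', pow_mul, hw', hw])
    rw [← hw', map_pow, map_pow, h1]
  have hne : ∀ a, (t a).Nonempty := by
    intro a
    obtain ⟨m, hm⟩ := exists_pow hR ℓ hu hπ hz hτ σ a
    exact ⟨τ ^ m, Subgroup.le_topologicalClosure _ (Subgroup.pow_mem _ (Subgroup.mem_zpowers τ) m), hm⟩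
  obtain ⟨ρ, hρ⟩ := IsCompact.nonempty_iInter_of_sequence_nonempty_isCompact_isClosed t hdec hne
    (hclosed 0).isCompact hclosed
  rw [Set.mem_iInter] at hρ
  have hρU : ρ ∈ U := hcl (hρ 0).1
  -- `s = ρ⁻¹ σ` fixes all roots
  have hs : ∀ (a : ℕ) (w : Ω), w ^ (ℓ ^ a) = algebraMap R Ω π → (ρ⁻¹ * σ) w = w := by
    intro a w hw
    have h1 := (hρ a).2 w hw
    rw [AlgEquiv.mul_apply, ← h1, ← AlgEquiv.mul_apply, inv_mul_cancel, AlgEquiv.one_apply]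
  obtain ⟨d, hd, hdU⟩ := H481.Tame.exists_coprime_pow_mem R K Ω hR ℓ hu hπ (ρ⁻¹ * σ) hs U hU
  obtain ⟨n, hn⟩ := hpow (ρ⁻¹ * σ)
  have hco : IsCoprime (d : ℤ) ((ℓ ^ n : ℕ) : ℤ) := Nat.isCoprime_iff_coprime.2 (Nat.Coprime.pow_right n hd)
  obtain ⟨u, v, huv⟩ := hco
  have h2 : ρ⁻¹ * σ ∈ U := by
    have h3 : (ρ⁻¹ * σ) = ((ρ⁻¹ * σ) ^ d) ^ u * ((ρ⁻¹ * σ) ^ (ℓ ^ n)) ^ v := by
      rw [← zpow_natCast, ← zpow_natCast, ← zpow_mul, ← zpow_mul, ← zpow_add, mul_comm (d : ℤ), mul_comm _ v, huv,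
        zpow_one]
    rw [h3]
    exact U.mul_mem (U.zpow_mem hdU u) (U.zpow_mem hn v)
  have h4 := U.mul_mem hρU h2
  rwa [mul_inv_cancel_left] at h4

end Groth.Agent.Sga7.H730.Cyc

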