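import Groth.Agent.Sga7.H730.Cyc
import Groth.Agent.Sga7.H730.StabOpen
import Groth.Agent.Sga7.H733.PtsBasic
import Groth.Agent.Sga7.H620.Growth

/-!
# Level two: the fixed torsion points are the points fixed by one automorphism
-/

set_option autoImplicit false
universe u
open CategoryTheory CategoryTheory.Limits AlgebraicGeometry
open scoped MonObj
open SGA7 Groth.Agent.Sga7.H733.PtsBasic Groth.Agent.Sga7.H620.Growth

namespace Groth.Agent.Sga7.H730.CycPts

section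

variable {K Ω : Type u} [Field K] [Field Ω] [Algebra K Ω] (A : Over (Spec (CommRingCat.of K))) [GrpObj A]

lemma dev_eq_one_iff (σ : Ω ≃ₐ[K] Ω) (x : Pts Ω A) : dev σ x = 1 ↔ galAct σ x = x := mul_inv_eq_one

/-- `dev` as a homomorphism -/
noncomputable def devHom [IsCommMonObj A] (σ : Ω ≃ₐ[K] Ω) : Pts Ω A →* Pts Ω A where
  toFun := dev σ
  map_one' := by rw [dev, galAct_one', inv_one, mul_one]
  map_mul' x y := by rw [dev, dev, dev, galAct_mul', mul_inv, mul_mul_mul_comm]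

/-- the subgroup generated by all `σ z / z`, `z` of `l`-power order -/
noncomputable def WΩ (Ω : Type u) [Field Ω] [Algebra K Ω] [IsCommMonObj A] (l : ℕ) : Subgroup (Pts Ω A) :=
  Subgroup.closure {w | ∃ (σ : Ω ≃ₐ[K] Ω) (z : Pts Ω A) (n : ℕ), z ^ (l ^ n) = 1 ∧ w = dev σ z}

/-- the fixed points -/
noncomputable def FixΩ (Ω : Type u) [Field Ω] [Algebra K Ω] [IsCommMonObj A] : Subgroup (Pts Ω A) where
  carrier := {x | ∀ σ : Ω ≃ₐ[K] Ω, galAct σ x = x}
  mul_mem' {a b} ha hb := fun σ => by rw [galAct_mul', ha, hb]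
  one_mem' := fun σ => galAct_one' σ
  inv_mem' {a} ha := fun σ => by rw [galAct_inv, ha]

lemma mem_FixΩ [IsCommMonObj A] {x : Pts Ω A} : x ∈ FixΩ A Ω ↔ ∀ σ : Ω ≃ₐ[K] Ω, galAct σ x = x := Iff.rfl

variable {A}

/-- powers, under the level two condition -/
lemma galAct_pow_eq [IsCommMonObj A] (s : Ω ≃ₐ[K] Ω) (x : Pts Ω A) (h : dev s (dev s x) = 1) (m : ℕ) :
    galAct (s ^ m) x = dev s x ^ m * x := by
  induction m with
  | zero => rw [pow_zero, galAct_one, pow_zero, one_mul]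
  | succ m ih =>
    have h1 : galAct s (dev s x) = dev s x := (dev_eq_one_iff A _ _).mp h
    have h2 : galAct s x = dev s x * x := by rw [dev, inv_mul_cancel_right]
    rw [pow_succ', galAct_mul, ih, galAct_mul', galAct_npow, h1, h2, pow_succ, mul_assoc]

end

theorem exists_tau (R K Ω : Type u) [CommRing R] [IsDomain R] [IsDiscreteValuationRing R]
    [Field K] [Algebra R K] [IsFractionRing R K] [Field Ω] [Algebra K Ω] [IsSepClosure K Ω]
    (hR : EtCoh.IsStrictlyHenselianLocalRing R) (ℓ : ℕ) (hℓ : ℓ.Prime) (hℓp : (ℓ : IsLocalRing.ResidueField R) ≠ 0)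
    (A : Over (Spec (CommRingCat.of K))) [GrpObj A] [IsCommMonObj A] [LocallyOfFiniteType A.hom]
    (hlev : ∀ (ν : ℕ) (σ τ : Ω ≃ₐ[K] Ω) (x : Pts Ω A), x ^ (ℓ ^ ν) = 1 → dev σ (dev τ x) = 1) :
    ∃ τ : Ω ≃ₐ[K] Ω, ∀ (ν : ℕ) (x : Pts Ω A), x ^ (ℓ ^ ν) = 1 → galAct τ x = x →
      ∀ σ : Ω ≃ₐ[K] Ω, galAct σ x = x := by
  have : Fact ℓ.Prime := ⟨hℓ⟩
  have : IsSepClosed Ω := IsSepClosure.sep_closed K
  have : IsGalois K Ω := IsSepClosure.isGalois
  let _ : Algebra R Ω := ((algebraMap K Ω).comp (algebraMap R K)).toAlgebra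
  have : IsScalarTower R K Ω := .of_algebraMap_eq fun _ => rfl
  obtain ⟨π, hπ⟩ := IsDiscreteValuationRing.exists_irreducible R
  have hu := H481.Tame.isUnit_of_residue_ne_zero hℓp
  obtain ⟨τ, z, hz, hτ⟩ := Cyc.exists_moved R K Ω ℓ hu hπ
  refine ⟨τ, fun ν x hx hτx => ?_⟩
  let U : Subgroup (Ω ≃ₐ[K] Ω) :=
    { carrier := {σ | galAct σ x = x}
      mul_mem' := fun {a b} ha hb => by
        change galAct (a * b) x = x
        rw [galAct_mul, show galAct b x = x from hb, show galAct a x = x from ha]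
      one_mem' := galAct_one x
      inv_mem' := fun {a} ha => by
        change galAct a⁻¹ x = x
        have h1 : galAct (a⁻¹ * a) x = x := by rw [inv_mul_cancel, galAct_one]
        rwa [galAct_mul, show galAct a x = x from ha] at h1 }
  have hU : IsOpen (U : Set (Ω ≃ₐ[K] Ω)) := StabOpen.isOpen_stab A x U (fun σ hσ => hσ)
  have htop := Cyc.eq_top hR ℓ hu hπ hz hτ U hU hτx (fun s => ⟨ν, by
    change galAct (s ^ (ℓ ^ ν)) x = x
    rw [galAct_pow_eq s x (hlev ν s s x hx)]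
    have h1 : dev s x ^ (ℓ ^ ν) = 1 := by
      have h2 := map_pow (devHom A s) x (ℓ ^ ν)
      rw [hx, map_one] at h2
      exact h2.symm
    rw [h1, one_mul]⟩)
  intro σ
  have : σ ∈ U := by rw [htop]; trivial
  exact this

/-- the counting statement -/
theorem TL_of_levelTwo (R K Ω : Type u) [CommRing R] [IsDomain R] [IsDiscreteValuationRing R]
    [Field K] [Algebra R K] [IsFractionRing R K] [Field Ω] [Algebra K Ω] [IsSepClosure K Ω]
    (hR : EtCoh.IsStrictlyHenselianLocalRing R) (ℓ : ℕ) (hℓ : ℓ.Prime) (hℓp : (ℓ : IsLocalRing.ResidueField R) ≠ 0)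
    (A : Over (Spec (CommRingCat.of K))) [GrpObj A] [IsCommMonObj A] [LocallyOfFiniteType A.hom]
    (hlev : ∀ (ν : ℕ) (σ τ : Ω ≃ₐ[K] Ω) (x : Pts Ω A), x ^ (ℓ ^ ν) = 1 → dev σ (dev τ x) = 1)
    (a : ℕ) (hTL : TL (Pts Ω A) ℓ a) : TL (↥(WΩ A Ω ℓ) × ↥(FixΩ A Ω)) ℓ a := by
  classical
  obtain ⟨τ, hτ⟩ := exists_tau R K Ω hR ℓ hℓ hℓp A hlev
  obtain ⟨C, hC⟩ := hTL
  refine ⟨C, fun n => ?_⟩
  obtain ⟨s, hs, hs'⟩ := hC n
  let r : Pts Ω A → Pts Ω A := fun d => Function.invFunOn (dev τ) (s : Set (Pts Ω A)) d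
  have hr : ∀ x ∈ s, r (dev τ x) ∈ s ∧ dev τ (r (dev τ x)) = dev τ x := fun x hx =>
    ⟨Function.invFunOn_mem ⟨x, hx, rfl⟩, Function.invFunOn_eq ⟨x, hx, rfl⟩⟩
  let φ : {x // x ∈ s} → ↥(WΩ A Ω ℓ) × ↥(FixΩ A Ω) := fun x =>
    (⟨dev τ x.1, Subgroup.subset_closure ⟨τ, x.1, n, hs x.1 x.2, rfl⟩⟩,
      ⟨x.1 / r (dev τ x.1), by
        have h1 := hr x.1 x.2
        refine hτ n _ ?_ ?_
        · rw [div_pow, hs _ x.2, hs _ h1.1, div_one]
        · rw [← dev_eq_one_iff]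
          have h2 := map_div (devHom A τ) x.1 (r (dev τ x.1))
          change dev τ _ = dev τ _ / dev τ _ at h2
          rw [h2, h1.2, div_self']⟩)
  have hφ : Function.Injective φ := by
    intro x y hxy
    have h1 : dev τ x.1 = dev τ y.1 := congrArg (fun p => p.1.1) hxy
    have h2 : x.1 / r (dev τ x.1) = y.1 / r (dev τ y.1) := congrArg (fun p => p.2.1) hxy
    rw [h1] at h2
    exact Subtype.ext (div_left_injective h2)
  refine ⟨s.attach.image φ, ?_, ?_⟩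
  · intro p hp
    obtain ⟨x, -, rfl⟩ := Finset.mem_image.mp hp
    refine Prod.ext (Subtype.ext ?_) (Subtype.ext ?_)
    · change dev τ x.1 ^ (ℓ ^ n) = 1
      have h2 := map_pow (devHom A τ) x.1 (ℓ ^ n)
      rw [hs _ x.2, map_one] at h2
      exact h2.symm
    · change (x.1 / r (dev τ x.1)) ^ (ℓ ^ n) = 1
      rw [div_pow, hs _ x.2, hs _ (hr x.1 x.2).1, div_one]
  · rwa [Finset.card_image_of_injective _ hφ, Finset.card_attach]

end Groth.Agent.Sga7.H730.CycPts
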