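import Groth.Agent.Grpsch.GrowthFF

/-!
# Divisor calculus on integral schemes

`X` integral, `F = K(X)`.
* `sg f h : K(Y) →+* K(X)` for a dominant `f : X ⟶ Y` (`h : f η_X = η_Y`).
* `UU X p ⊆ Fˣ`: units of the local ring at `p`.
* `Dv X = ∏_p Fˣ / O_pˣ`, `dv : Fˣ →* Dv X` (principal divisors), `pl f h : Dv Y →* Dv X` (pull back).
-/

set_option autoImplicit false
universe u

open AlgebraicGeometry CategoryTheory CategoryTheory.Limits TopologicalSpace Opposite
open Groth.Agent.Dix.Center Groth.Agent.Grpsch.GrowthFF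

namespace Groth.Agent.Sga7.H730.Dv

variable {X Y Z : Scheme.{u}} [AlgebraicGeometry.IsIntegral X] [AlgebraicGeometry.IsIntegral Y]
  [AlgebraicGeometry.IsIntegral Z]

/-- `f` maps the generic point to the generic point. -/
def Dom (f : X ⟶ Y) : Prop := f (genericPoint X) = genericPoint Y

lemma Dom.id : Dom (𝟙 X) := rfl

lemma Dom.comp {f : X ⟶ Y} {g : Y ⟶ Z} (hf : Dom f) (hg : Dom g) : Dom (f ≫ g) := by
  unfold Dom at *
  rw [Scheme.Hom.comp_apply, hf, hg]

lemma Dom.of_surjective (f : X ⟶ Y) [Surjective f] : Dom f := by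
  have h := (genericPoint_spec X).image f.continuous
  have h2 : IsGenericPoint (f (genericPoint X)) (⊤ : Set Y) := by
    rw [Set.image_univ, f.surjective.range_eq, closure_univ] at h
    exact h
  exact h2.eq (genericPoint_spec Y)

lemma Dom.of_isIso (f : X ⟶ Y) [IsIso f] : Dom f := Dom.of_surjective f

/-- the homomorphism of function fields -/
noncomputable def sg (f : X ⟶ Y) (h : Dom f) : Y.functionField →+* X.functionField :=
  toKY f (genericPoint Y) (specializes_of_eq h)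

lemma sg_toK (f : X ⟶ Y) (h : Dom f) (p : X) (a : Y.presheaf.stalk (f p)) :
    sg f h (toK Y (f p) a) = toK X p (f.stalkMap p a) := by
  rw [toK_stalkMap f p ((genericPoint_specializes X p).map f.continuous)]
  have := Y.presheaf.stalkSpecializes_comp (specializes_of_eq h) (genericPoint_specializes Y (f p))
  exact congrArg (f.stalkMap (genericPoint X)) (DFunLike.congr_fun (congrArg CommRingCat.Hom.hom this) a)

lemma sg_germ (f : X ⟶ Y) (h : Dom f) (U : Y.Opens) (hU : genericPoint Y ∈ U)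
    (hU' : genericPoint X ∈ f ⁻¹ᵁ U) (s : Γ(Y, U)) :
    sg f h (Y.presheaf.germ U (genericPoint Y) hU s) =
      X.presheaf.germ (f ⁻¹ᵁ U) (genericPoint X) hU' (f.app U s) := by
  have hfη : f (genericPoint X) ∈ U := hU'
  have h1 : Y.presheaf.stalkSpecializes (specializes_of_eq h) (Y.presheaf.germ U (genericPoint Y) hU s) =
      Y.presheaf.germ U (f (genericPoint X)) hfη s :=
    TopCat.Presheaf.germ_stalkSpecializes_apply Y.presheaf hU (specializes_of_eq h) s
  have h2 : sg f h (Y.presheaf.germ U (genericPoint Y) hU s) =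
      f.stalkMap (genericPoint X) (Y.presheaf.stalkSpecializes (specializes_of_eq h)
        (Y.presheaf.germ U (genericPoint Y) hU s)) := rfl
  rw [h2, h1]
  exact f.germ_stalkMap_apply U (genericPoint X) hfη s

lemma sg_mem_O (f : X ⟶ Y) (h : Dom f) {p : X} {φ : Y.functionField} (hφ : φ ∈ O Y (f p)) :
    sg f h φ ∈ O X p := by
  obtain ⟨a, rfl⟩ := hφ
  rw [sg_toK]
  exact toK_mem_O _

/-- every element of the function field is the germ of a section over an open set -/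
lemma exists_germ (φ : X.functionField) : ∃ (U : X.Opens) (hU : genericPoint X ∈ U) (s : Γ(X, U)),
    X.presheaf.germ U (genericPoint X) hU s = φ := X.presheaf.exists_germ_eq φ

lemma sg_id (φ : X.functionField) : sg (𝟙 X) Dom.id φ = φ := by
  obtain ⟨U, hU, s, rfl⟩ := exists_germ φ
  have h := sg_germ (𝟙 X) Dom.id U hU hU s
  refine h.trans ?_
  rw [Scheme.Hom.id_app]
  rfl

lemma sg_comp (f : X ⟶ Y) (g : Y ⟶ Z) (hf : Dom f) (hg : Dom g) (hfg : Dom (f ≫ g)) (φ : Z.functionField) :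
    sg (f ≫ g) hfg φ = sg f hf (sg g hg φ) := by
  obtain ⟨U, hU, s, rfl⟩ := exists_germ φ
  have hY : genericPoint Y ∈ g ⁻¹ᵁ U := by
    change g (genericPoint Y) ∈ U
    rw [hg]; exact hU
  have hX : genericPoint X ∈ f ⁻¹ᵁ (g ⁻¹ᵁ U) := by
    change f (genericPoint X) ∈ g ⁻¹ᵁ U
    rw [hf]; exact hY
  rw [sg_germ g hg U hU hY, sg_germ f hf _ hY hX]
  refine (sg_germ (f ≫ g) hfg U hU hX s).trans ?_
  rw [Scheme.Hom.comp_app]
  rfl

lemma sg_congr {f g : X ⟶ Y} (h : f = g) (hf : Dom f) (hg : Dom g) (φ : Y.functionField) :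
    sg f hf φ = sg g hg φ := by subst h; rfl

/-! ### Units at a point -/

variable (X) in
/-- the units of the local ring at `p`, in the function field -/
def UU (p : X) : Subgroup X.functionFieldˣ where
  carrier := {φ | (φ : X.functionField) ∈ O X p ∧ ((φ⁻¹ : X.functionFieldˣ) : X.functionField) ∈ O X p}
  mul_mem' {a b} ha hb := ⟨by
    rw [Units.val_mul]; exact (O X p).mul_mem ha.1 hb.1, by
    rw [mul_inv, Units.val_mul]; exact (O X p).mul_mem ha.2 hb.2⟩
  one_mem' := ⟨(O X p).one_mem, by rw [inv_one]; exact (O X p).one_mem⟩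
  inv_mem' {a} ha := ⟨ha.2, by rw [inv_inv]; exact ha.1⟩

lemma mem_UU {p : X} {φ : X.functionFieldˣ} : φ ∈ UU X p ↔ (φ : X.functionField) ∈ O X p ∧
    ((φ⁻¹ : X.functionFieldˣ) : X.functionField) ∈ O X p := Iff.rfl

lemma mem_UU_iff {p : X} {φ : X.functionFieldˣ} : φ ∈ UU X p ↔
    ∃ a : (X.presheaf.stalk p)ˣ, toK X p a = φ := by
  constructor
  · rintro ⟨⟨a, ha⟩, h2⟩
    have h3 : IsUnit a := by
      rw [isUnit_iff (by rw [ha]; exact φ.ne_zero), ha, ← Units.val_inv_eq_inv_val]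
      exact h2
    obtain ⟨b, rfl⟩ := h3
    exact ⟨b, ha⟩
  · rintro ⟨a, ha⟩
    refine ⟨ha ▸ toK_mem_O _, ?_⟩
    rw [Units.val_inv_eq_inv_val, ← ha, ← isUnit_iff (by rw [ha]; exact φ.ne_zero)]
    exact a.isUnit

/-- the homomorphism on units -/
noncomputable def sgU (f : X ⟶ Y) (h : Dom f) : Y.functionFieldˣ →* X.functionFieldˣ :=
  Units.map (sg f h : Y.functionField →* X.functionField)

@[simp] lemma coe_sgU (f : X ⟶ Y) (h : Dom f) (φ : Y.functionFieldˣ) :
    (sgU f h φ : X.functionField) = sg f h φ := rfl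

lemma sgU_id (φ : X.functionFieldˣ) : sgU (𝟙 X) Dom.id φ = φ := by
  apply Units.ext
  rw [coe_sgU, sg_id]

lemma sgU_comp (f : X ⟶ Y) (g : Y ⟶ Z) (hf : Dom f) (hg : Dom g) (hfg : Dom (f ≫ g))
    (φ : Z.functionFieldˣ) : sgU (f ≫ g) hfg φ = sgU f hf (sgU g hg φ) := by
  apply Units.ext
  rw [coe_sgU, coe_sgU, coe_sgU, sg_comp f g hf hg hfg]

lemma sgU_congr {f g : X ⟶ Y} (h : f = g) (hf : Dom f) (hg : Dom g) (φ : Y.functionFieldˣ) :
    sgU f hf φ = sgU g hg φ := by subst h; rfl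

lemma sgU_mem_UU (f : X ⟶ Y) (h : Dom f) {p : X} {φ : Y.functionFieldˣ} (hφ : φ ∈ UU Y (f p)) :
    sgU f h φ ∈ UU X p :=
  ⟨sg_mem_O f h hφ.1, by rw [← map_inv]; exact sg_mem_O f h hφ.2⟩

lemma UU_le (f : X ⟶ Y) (h : Dom f) (p : X) : UU Y (f p) ≤ (UU X p).comap (sgU f h) :=
  fun _ hφ => sgU_mem_UU f h hφ

/-! ### Divisors -/

variable (X) in
/-- (not necessarily locally principal) families of local equations -/
def Dvs : Type u := ∀ p : X, X.functionFieldˣ ⧸ UU X p

noncomputable instance : CommGroup (Dvs X) :=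
  inferInstanceAs (CommGroup (∀ p : X, X.functionFieldˣ ⧸ UU X p))

@[ext] lemma Dvs.ext {D E : Dvs X} (h : ∀ p, D p = E p) : D = E := funext h

lemma Dvs.mul_apply (D E : Dvs X) (p : X) : (D * E) p = D p * E p := rfl

lemma Dvs.one_apply (p : X) : (1 : Dvs X) p = 1 := rfl

lemma Dvs.inv_apply (D : Dvs X) (p : X) : D⁻¹ p = (D p)⁻¹ := rfl

/-- principal divisors -/
noncomputable def dv : X.functionFieldˣ →* Dvs X where
  toFun φ _ := QuotientGroup.mk φ
  map_one' := rfl
  map_mul' _ _ := rfl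

lemma dv_apply (φ : X.functionFieldˣ) (p : X) : dv φ p = QuotientGroup.mk φ := rfl

lemma dv_eq_one_iff {φ : X.functionFieldˣ} : dv φ = 1 ↔ ∀ p, φ ∈ UU X p := by
  constructor
  · intro h p
    exact (QuotientGroup.eq_one_iff φ).mp (congrFun h p)
  · intro h
    ext p : 1
    exact (QuotientGroup.eq_one_iff φ).mpr (h p)

/-- pull back of divisors -/
noncomputable def pl (f : X ⟶ Y) (h : Dom f) : Dvs Y →* Dvs X where
  toFun D p := QuotientGroup.map (UU Y (f p)) (UU X p) (sgU f h) (UU_le f h p) (D (f p))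
  map_one' := by
    ext p : 1
    exact map_one (QuotientGroup.map (UU Y (f p)) (UU X p) (sgU f h) (UU_le f h p))
  map_mul' D E := by
    ext p : 1
    exact map_mul (QuotientGroup.map (UU Y (f p)) (UU X p) (sgU f h) (UU_le f h p)) (D (f p)) (E (f p))

lemma pl_apply (f : X ⟶ Y) (h : Dom f) (D : Dvs Y) (p : X) (φ : Y.functionFieldˣ)
    (hφ : D (f p) = QuotientGroup.mk φ) : pl f h D p = QuotientGroup.mk (sgU f h φ) := by
  change QuotientGroup.map (UU Y (f p)) (UU X p) (sgU f h) (UU_le f h p) (D (f p)) = _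
  rw [hφ]
  rfl

lemma pl_dv (f : X ⟶ Y) (h : Dom f) (φ : Y.functionFieldˣ) : pl f h (dv φ) = dv (sgU f h φ) := by
  ext p : 1
  exact pl_apply f h _ p φ rfl

lemma pl_id (D : Dvs X) : pl (𝟙 X) Dom.id D = D := by
  ext p : 1
  obtain ⟨φ, hφ⟩ := QuotientGroup.mk_surjective (D p)
  rw [pl_apply (𝟙 X) Dom.id D p φ hφ.symm, sgU_id]
  exact hφ

lemma pl_comp (f : X ⟶ Y) (g : Y ⟶ Z) (hf : Dom f) (hg : Dom g) (hfg : Dom (f ≫ g)) (D : Dvs Z) :
    pl (f ≫ g) hfg D = pl f hf (pl g hg D) := by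
  ext p : 1
  obtain ⟨φ, hφ⟩ := QuotientGroup.mk_surjective (D (g (f p)))
  rw [pl_apply (f ≫ g) hfg D p φ hφ.symm,
    pl_apply f hf (pl g hg D) p (sgU g hg φ) (pl_apply g hg D (f p) φ hφ.symm), sgU_comp f g hf hg hfg]

lemma pl_congr {f g : X ⟶ Y} (h : f = g) (hf : Dom f) (hg : Dom g) (D : Dvs Y) :
    pl f hf D = pl g hg D := by subst h; rfl

end Groth.Agent.Sga7.H730.Dv
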