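import Groth.Agent.Sga7.H730.TLPts
import Groth.Agent.Sga7.H729.Inputs

/-!
# OUT2 of CORE in the form of `H729.Inputs`
-/

set_option autoImplicit false

universe u

open CategoryTheory AlgebraicGeometry Limits

namespace Groth.Agent.Sga7.H730.Out2

theorem out2 : H729.Inputs.Out2.{u} := by
  intro R K Ω _ _ _ _ _ _ _ _ _ _ _ l hl hlp A _ _ _ _ g hg hlev
  exact TLPts.TL_W_Fix R K Ω ⟨inferInstance, inferInstance⟩ l hl hlp A hlev g hg

end Groth.Agent.Sga7.H730.Out2
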