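import Groth.Agent.Sga7.H730.Tr

/-!
# The pairing attached to a divisor, in function field form

`G/S` commutative group scheme with integral total space, `D` a divisor satisfying the theorem of the square
(`Setting`).  For `x ∈ G(S)[n]` there is a function `g` with `dv g = [n]^* (T_x^* D / D)`, and
`e x y := T_y^* g / g` for `y ∈ G(S)[n]`.  It is bimultiplicative with values in the (units of the) function field.
-/

set_option autoImplicit false
universe u

open CategoryTheory CategoryTheory.Limits MonoidalCategory CartesianMonoidalCategory AlgebraicGeometry TopologicalSpace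
open scoped MonObj

namespace Groth.Agent.Sga7.H730.Pair

open Dv Tr

variable {S : Scheme.{u}} {G : Over S} [GrpObj G] [AlgebraicGeometry.IsIntegral G.left] [IsCommMonObj G]

variable (G) in
/-- sections -/
abbrev Sec : Type u := 𝟙_ (Over S) ⟶ G

variable (G) in
/-- `n`-torsion sections -/
noncomputable abbrev Tor (n : ℕ) : Subgroup (Sec G) := (powMonoidHom n : Sec G →* Sec G).ker

omit [AlgebraicGeometry.IsIntegral G.left] in
lemma mem_Tor {n : ℕ} {x : Sec G} : x ∈ Tor G n ↔ x ^ n = 1 := Iff.rfl

/-- `D` satisfies the theorem of the square, and the functions without divisor are translation invariant -/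
structure Setting (n : ℕ) (hn : Dom (𝟙 G ^ n : G ⟶ G).left) (D : Dvs G.left) : Prop where
  const : ∀ φ : G.left.functionFieldˣ, dv φ = 1 → ∀ y : Sec G, ta y φ = φ
  square : ∀ x y : Sec G, ∃ φ, td (x * y) D * D = td x D * td y D * dv φ
  tors : ∀ x : Sec G, x ^ n = 1 → ∃ g, dv g = pd G n hn (td x D / D)

variable {n : ℕ} {hn : Dom (𝟙 G ^ n : G ⟶ G).left} {D : Dvs G.left} (s : Setting n hn D)

namespace Setting

omit s in
lemma ta_div {x : Sec G} {g : G.left.functionFieldˣ} (hg : dv g = pd G n hn (td x D / D)) {y : Sec G}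
    (hy : y ^ n = 1) : dv (ta y g / g) = 1 := by
  rw [map_div, ← td_dv, hg, td_pd, hy, td_one, div_self']

include s in
/-- independence of the choice of `g` -/
lemma ta_div_eq {x : Sec G} {g g' : G.left.functionFieldˣ} (hg : dv g = pd G n hn (td x D / D))
    (hg' : dv g' = pd G n hn (td x D / D)) (y : Sec G) : ta y g / g = ta y g' / g' := by
  have h1 : dv (g / g') = 1 := by rw [map_div, hg, hg', div_self']
  have h2 := s.const _ h1 y
  rw [map_div, div_eq_div_iff_mul_eq_mul] at h2
  rw [div_eq_div_iff_mul_eq_mul, h2, mul_comm]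

/-- the function attached to a torsion point -/
noncomputable def gf (x : Tor G n) : G.left.functionFieldˣ := (s.tors x.1 x.2).choose

lemma gf_spec (x : Tor G n) : dv (s.gf x) = pd G n hn (td x.1 D / D) := (s.tors x.1 x.2).choose_spec

/-- the pairing -/
noncomputable def e : Tor G n →* (Tor G n →* G.left.functionFieldˣ) where
  toFun x :=
    { toFun := fun y => ta y.1 (s.gf x) / s.gf x
      map_one' := by
        rw [OneMemClass.coe_one, ta_one, div_self']
      map_mul' := fun y y' => by
        have h1 := s.const _ (ta_div (s.gf_spec x) y.2) y'.1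
        rw [Subgroup.coe_mul, ta_mul]
        rw [map_div, div_eq_iff_eq_mul] at h1
        rw [h1, mul_div_assoc] }
  map_one' := by
    ext y : 1
    have h1 : dv (1 : G.left.functionFieldˣ) = pd G n hn (td (1 : Sec G) D / D) := by
      rw [map_one, td_one, div_self', map_one]
    change ta y.1 (s.gf 1) / s.gf 1 = 1
    rw [s.ta_div_eq (s.gf_spec 1) h1, map_one, div_one]
  map_mul' x x' := by
    ext y : 1
    change ta y.1 (s.gf (x * x')) / s.gf (x * x') = (ta y.1 (s.gf x) / s.gf x) * (ta y.1 (s.gf x') / s.gf x')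
    obtain ⟨φ, hφ⟩ := s.square x.1 x'.1
    have h0 : td (x.1 * x'.1) D / D = (td x.1 D / D) * (td x'.1 D / D) * dv φ := by
      rw [div_mul_div_comm, div_eq_iff_eq_mul, div_mul_eq_mul_div, div_mul_eq_mul_div, ← hφ, mul_assoc,
        mul_div_cancel_right]
    have h1 : dv (s.gf x * s.gf x' * pw G n hn φ) = pd G n hn (td (x.1 * x'.1) D / D) := by
      rw [h0, map_mul, map_mul, map_mul, map_mul, s.gf_spec, s.gf_spec, pd_dv]
    have h2 : ta y.1 (pw G n hn φ) = pw G n hn φ := by
      rw [ta_pw, show y.1 ^ n = 1 from y.2, ta_one]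
    rw [s.ta_div_eq (s.gf_spec (x * x')) h1, map_mul, map_mul, h2, mul_div_mul_right_eq_div, div_mul_div_comm]

lemma e_apply (x y : Tor G n) {g : G.left.functionFieldˣ} (hg : dv g = pd G n hn (td x.1 D / D)) :
    s.e x y = ta y.1 g / g := s.ta_div_eq (s.gf_spec x) hg _

lemma e_eq_one_iff (x y : Tor G n) {g : G.left.functionFieldˣ} (hg : dv g = pd G n hn (td x.1 D / D)) :
    s.e x y = 1 ↔ ta y.1 g = g := by
  rw [s.e_apply x y hg, div_eq_one]

lemma e_pow (x y : Tor G n) : s.e x y ^ n = 1 := by
  rw [← map_pow, show y ^ n = 1 from Subtype.ext y.2, map_one]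

end Setting

/-- equivariance under an automorphism `f` of the scheme `G`, compatible with translations by points -/
theorem Setting.e_equivariant {f : G.left ⟶ G.left} (hf : Dom f) (hD : pl f hf D = D)
    (hnf : f ≫ (𝟙 G ^ n : G ⟶ G).left = (𝟙 G ^ n : G ⟶ G).left ≫ f)
    (x y x' y' : Tor G n) (hx : (tr x'.1).left ≫ f = f ≫ (tr x.1).left)
    (hy : (tr y'.1).left ≫ f = f ≫ (tr y.1).left) :
    s.e x' y' = sgU f hf (s.e x y) := by
  have hD' : pl f hf (td x.1 D) = td x'.1 D := by
    rw [td, td, ← pl_comp _ _ hf (dom_tr _) (Dom.comp hf (dom_tr _)),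
      pl_congr hx.symm _ (Dom.comp (dom_tr _) hf), pl_comp _ _ (dom_tr _) hf, hD]
  have hg : dv (sgU f hf (s.gf x)) = pd G n hn (td x'.1 D / D) := by
    rw [← pl_dv, s.gf_spec, pd, ← pl_comp _ _ hf hn (Dom.comp hf hn), pl_congr hnf _ (Dom.comp hn hf),
      pl_comp _ _ hn hf, map_div, hD', hD]
  have hy' : sgU f hf (ta y.1 (s.gf x)) = ta y'.1 (sgU f hf (s.gf x)) := by
    rw [ta, ta, ← sgU_comp _ _ hf (dom_tr _) (Dom.comp hf (dom_tr _)),
      sgU_congr hy.symm _ (Dom.comp (dom_tr _) hf), sgU_comp _ _ (dom_tr _) hf]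
  rw [s.e_apply x' y' hg, s.e_apply x y (s.gf_spec x), map_div, hy']

end Groth.Agent.Sga7.H730.Pair
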