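import Groth.Agent.Sga7.H730.Dv
import Groth.Agent.Grpsch.PicGrp

/-!
# Invertible modules and divisors on an integral scheme

`Rep P D`: the family of local equations `D` represents the class `P ∈ Pic X`.
* `exists_rep`, `Rep.mul`, `Rep.inv`, `Rep.pull`, `rep_one`, `Rep.exists_dv` (two representatives differ by a principal
  divisor), `Rep.eq_one` (`Rep P (dv φ) → P = 1`).
-/

set_option autoImplicit false
universe u

open AlgebraicGeometry CategoryTheory CategoryTheory.Limits TopologicalSpace Opposite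
open Groth.Agent.Dix.Center Groth.Agent.Grpsch.GrowthFF Groth.Agent.Fdesc.LocGen
open Groth.Agent.Grpsch.PicGrp

namespace Groth.Agent.Sga7.H730.PicDv

open Dv

variable {X Y : Scheme.{u}} [AlgebraicGeometry.IsIntegral X] [AlgebraicGeometry.IsIntegral Y]

/-- the germ at the generic point -/
noncomputable def gg {U : X.Opens} (hU : genericPoint X ∈ U) : Γ(X, U) →+* X.functionField :=
  (X.presheaf.germ U (genericPoint X) hU).hom

lemma gg_ores {U V : X.Opens} (h : V ≤ U) (hV : genericPoint X ∈ V) (a : Γ(X, U)) :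
    gg hV (ores h a) = gg (h hV) a :=
  X.presheaf.germ_res_apply _ _ _ _

lemma gg_mem_O {U : X.Opens} (hU : genericPoint X ∈ U) {p : X} (hp : p ∈ U) (a : Γ(X, U)) :
    gg hU a ∈ O X p := germ_mem_O hp hU a

lemma sg_gg (f : X ⟶ Y) (h : Dom f) {U : Y.Opens} (hU : genericPoint Y ∈ U)
    (hU' : genericPoint X ∈ f ⁻¹ᵁ U) (s : Γ(Y, U)) :
    sg f h (gg hU s) = gg hU' ((f.app U).hom s) := sg_germ f h U hU hU' s

/-- the unit of the function field attached to a unit section -/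
noncomputable def gu {U : X.Opens} (hU : genericPoint X ∈ U) : (Γ(X, U))ˣ →* X.functionFieldˣ :=
  Units.map (gg hU : Γ(X, U) →* X.functionField)

lemma coe_gu {U : X.Opens} (hU : genericPoint X ∈ U) (a : (Γ(X, U))ˣ) :
    (gu hU a : X.functionField) = gg hU (a : Γ(X, U)) := rfl

lemma gu_mem_UU {U : X.Opens} (hU : genericPoint X ∈ U) {p : X} (hp : p ∈ U) (a : (Γ(X, U))ˣ) :
    gu hU a ∈ UU X p := by
  refine ⟨gg_mem_O hU hp _, ?_⟩
  rw [← map_inv]
  exact gg_mem_O hU hp _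

/-- `c = e / e'` in the function field, for two local generators. -/
def IsRatio {L : X.Modules} {W W' : X.Opens} (e : Γ(L, W)) (e' : Γ(L, W')) (c : X.functionFieldˣ) : Prop :=
  ∃ (V : X.Opens) (hV : genericPoint X ∈ V) (h : V ≤ W) (h' : V ≤ W') (a : (Γ(X, V))ˣ),
    res L h e = (a : Γ(X, V)) • res L h' e' ∧ gu hV a = c

section

variable {L : X.Modules} {W W' W'' : X.Opens} {e : Γ(L, W)} {e' : Γ(L, W')} {e'' : Γ(L, W'')}

lemma exists_ratio (he : IsGen e) (he' : IsGen e') (h : genericPoint X ∈ W) (h' : genericPoint X ∈ W') :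
    ∃ c, IsRatio e e' c ∧ ∀ p, p ∈ W → p ∈ W' → c ∈ UU X p := by
  obtain ⟨a, ha, hae⟩ := (he'.res (inf_le_right : W ⊓ W' ≤ W')).exists_unit (he.res (inf_le_left : W ⊓ W' ≤ W))
  obtain ⟨a, rfl⟩ := ha
  have hη : genericPoint X ∈ W ⊓ W' := ⟨h, h'⟩
  refine ⟨gu hη a, ⟨W ⊓ W', hη, inf_le_left, inf_le_right, a, hae, rfl⟩, fun p hp hp' => ?_⟩
  have hp2 : p ∈ W ⊓ W' := ⟨hp, hp'⟩
  exact gu_mem_UU hη hp2 a

lemma IsRatio.trans {c d : X.functionFieldˣ} (h : IsRatio e e' c) (h' : IsRatio e' e'' d) :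
    IsRatio e e'' (c * d) := by
  obtain ⟨V, hV, hVW, hVW', a, ha, rfl⟩ := h
  obtain ⟨V', hV', hV'W', hV'W'', b, hb, rfl⟩ := h'
  refine ⟨V ⊓ V', ⟨hV, hV'⟩, inf_le_left.trans hVW, inf_le_right.trans hV'W'',
    Units.map (ores (inf_le_left : V ⊓ V' ≤ V) : Γ(X, V) →* Γ(X, V ⊓ V')) a *
      Units.map (ores (inf_le_right : V ⊓ V' ≤ V') : Γ(X, V') →* Γ(X, V ⊓ V')) b, ?_, ?_⟩
  · have e1 := congrArg (res L (inf_le_left : V ⊓ V' ≤ V)) ha
    have e2 := congrArg (res L (inf_le_right : V ⊓ V' ≤ V')) hb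
    rw [res_smul, res_res, res_res] at e1 e2
    rw [e1, e2, smul_smul]
    rfl
  · apply Units.ext
    rw [coe_gu, Units.val_mul, Units.val_mul, coe_gu, coe_gu, map_mul]
    exact congrArg₂ (· * ·) (gg_ores inf_le_left _ _) (gg_ores inf_le_right _ _)

lemma IsRatio.symm {c : X.functionFieldˣ} (h : IsRatio e e' c) : IsRatio e' e c⁻¹ := by
  obtain ⟨V, hV, hVW, hVW', a, ha, rfl⟩ := h
  refine ⟨V, hV, hVW', hVW, a⁻¹, ?_, map_inv _ _⟩
  rw [ha, smul_smul, Units.inv_mul, one_smul]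

lemma IsRatio.unique (he' : IsGen e') {c d : X.functionFieldˣ} (h : IsRatio e e' c) (h' : IsRatio e e' d) :
    c = d := by
  obtain ⟨V, hV, hVW, hVW', a, ha, rfl⟩ := h
  obtain ⟨V', hV', hV'W, hV'W', b, hb, rfl⟩ := h'
  have e1 := congrArg (res L (inf_le_left : V ⊓ V' ≤ V)) ha
  have e2 := congrArg (res L (inf_le_right : V ⊓ V' ≤ V')) hb
  rw [res_smul, res_res, res_res] at e1 e2
  rw [e1] at e2
  have e3 := (he'.res ((inf_le_left : V ⊓ V' ≤ V).trans hVW')).ext e2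
  apply Units.ext
  rw [coe_gu, coe_gu, ← gg_ores (inf_le_left : V ⊓ V' ≤ V) ⟨hV, hV'⟩, e3, gg_ores]

lemma IsRatio.mem_UU (he : IsGen e) (he' : IsGen e') {c : X.functionFieldˣ} (h : IsRatio e e' c)
    {p : X} (hp : p ∈ W) (hp' : p ∈ W') : c ∈ UU X p := by
  obtain ⟨d, hd, hd'⟩ := exists_ratio he he' (genericPoint_mem hp) (genericPoint_mem hp')
  rw [h.unique he' hd]
  exact hd' p hp hp'

end

/-- the family `D` of local equations represents `L` -/
def RepM (L : X.Modules) (D : Dvs X) : Prop :=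
  ∃ (V₀ : X.Opens) (s₀ : Γ(L, V₀)), genericPoint X ∈ V₀ ∧ IsGen s₀ ∧
    ∀ p : X, ∃ (W : X.Opens) (e : Γ(L, W)) (c : X.functionFieldˣ), p ∈ W ∧ IsGen e ∧ IsRatio e s₀ c ∧
      D p = QuotientGroup.mk c

lemma exists_repM {L : X.Modules} (hL : PicF.IsInvertible L) : ∃ D, RepM L D := by
  rw [isInvertible_iff] at hL
  choose W e hW he using hL
  have h0 := fun p => exists_ratio (he p) (he (genericPoint X)) (genericPoint_mem (hW p)) (hW (genericPoint X))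
  choose c hc hc' using h0
  exact ⟨fun p => QuotientGroup.mk (c p), W (genericPoint X), e (genericPoint X), hW _, he _,
    fun p => ⟨W p, e p, c p, hW p, he p, hc p, rfl⟩⟩

/-- two representatives differ by a principal divisor -/
lemma RepM.exists_dv {L : X.Modules} {D D' : Dvs X} (h : RepM L D) (h' : RepM L D') :
    ∃ φ, D = D' * dv φ := by
  obtain ⟨V₀, s₀, hη, hs₀, h⟩ := h
  obtain ⟨V₀', s₀', hη', hs₀', h'⟩ := h'
  obtain ⟨φ, hφ, -⟩ := exists_ratio hs₀' hs₀ hη' hη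
  refine ⟨φ, ?_⟩
  ext p : 1
  obtain ⟨W, e, c, hp, he, hc, hD⟩ := h p
  obtain ⟨W', e', c', hp', he', hc', hD'⟩ := h' p
  rw [Dvs.mul_apply, hD, hD', dv_apply, ← QuotientGroup.mk_mul]
  rw [QuotientGroup.eq]
  have h1 : IsRatio e e' (c * φ⁻¹ * c'⁻¹) := (hc.trans hφ.symm).trans hc'.symm
  have h2 := (UU X p).inv_mem (h1.mem_UU he he' hp hp')
  convert h2 using 1
  simp only [mul_inv_rev, inv_inv, mul_comm, mul_left_comm, mul_assoc]

lemma RepM.mul_dv {L : X.Modules} {D : Dvs X} (h : RepM L D) (φ : X.functionFieldˣ) : RepM L (D * dv φ) := by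
  obtain ⟨V₀, s₀, hη, hs₀, h⟩ := h
  obtain ⟨U, hU, a, ha⟩ : ∃ (U : X.Opens) (hU : genericPoint X ∈ U) (a : (Γ(X, U))ˣ), gu hU a = φ := by
    obtain ⟨U, hU, s, hs⟩ := exists_germ (φ : X.functionField)
    obtain ⟨U', hU', s', hs'⟩ := exists_germ ((φ⁻¹ : X.functionFieldˣ) : X.functionField)
    change gg hU s = _ at hs
    change gg hU' s' = _ at hs'
    have h1 : gg (U := U ⊓ U') ⟨hU, hU'⟩ (ores inf_le_left s * ores inf_le_right s') = 1 := by
      rw [map_mul, gg_ores, gg_ores, hs, hs', Units.mul_inv]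
    have h2 : ores (inf_le_left : U ⊓ U' ≤ U) s * ores inf_le_right s' = 1 := by
      apply germ_injective_of_isIntegral X (genericPoint X) (U := U ⊓ U') ⟨hU, hU'⟩
      rw [map_one]
      exact h1
    refine ⟨U ⊓ U', ⟨hU, hU'⟩, Units.mkOfMulEqOne _ _ h2, ?_⟩
    apply Units.ext
    rw [coe_gu, Units.val_mkOfMulEqOne, gg_ores, hs]
  refine ⟨V₀ ⊓ U, ((a⁻¹ : (Γ(X, U))ˣ).map (ores (inf_le_right : V₀ ⊓ U ≤ U) : Γ(X, U) →* Γ(X, V₀ ⊓ U)) :
    (Γ(X, V₀ ⊓ U))ˣ).1 • res L inf_le_left s₀, ⟨hη, hU⟩, (hs₀.res _).unit_smul (Units.isUnit _), ?_⟩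
  intro p
  obtain ⟨W, e, c, hp, he, hc, hD⟩ := h p
  refine ⟨W, e, c * φ, hp, he, hc.trans ?_, by rw [Dvs.mul_apply, hD, dv_apply, ← QuotientGroup.mk_mul]⟩
  refine ⟨V₀ ⊓ U, ⟨hη, hU⟩, inf_le_left, le_rfl, a.map (ores (inf_le_right : V₀ ⊓ U ≤ U) : Γ(X, U) →* Γ(X, V₀ ⊓ U)), ?_, ?_⟩
  · rw [res_refl, smul_smul, ← Units.val_mul, ← map_mul, mul_inv_cancel, map_one, Units.val_one, one_smul]
  · rw [← ha]
    apply Units.ext
    rw [coe_gu, coe_gu]
    exact gg_ores inf_le_right _ _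

lemma RepM.tensor {L L' : X.Modules} {D D' : Dvs X} (h : RepM L D) (h' : RepM L' D') :
    RepM (CohB1.tensorMod L L') (D * D') := by
  obtain ⟨V₀, s₀, hη, hs₀, h⟩ := h
  obtain ⟨V₀', s₀', hη', hs₀', h'⟩ := h'
  refine ⟨V₀ ⊓ V₀', tmul (res L inf_le_left s₀) (res L' inf_le_right s₀'), ⟨hη, hη'⟩,
    (hs₀.res _).tmul (hs₀'.res _), ?_⟩
  intro p
  obtain ⟨W, e, c, hp, he, hc, hD⟩ := h p
  obtain ⟨W', e', c', hp', he', hc', hD'⟩ := h' p
  refine ⟨W ⊓ W', tmul (res L inf_le_left e) (res L' inf_le_right e'), c * c', ⟨hp, hp'⟩,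
    (he.res _).tmul (he'.res _), ?_, by rw [Dvs.mul_apply, hD, hD', ← QuotientGroup.mk_mul]⟩
  obtain ⟨V, hV, hVW, hVV₀, a, ha, rfl⟩ := hc
  obtain ⟨V', hV', hV'W', hV'V₀', b, hb, rfl⟩ := hc'
  refine ⟨V ⊓ V', ⟨hV, hV'⟩, inf_le_inf hVW hV'W', inf_le_inf hVV₀ hV'V₀',
    Units.map (ores (inf_le_left : V ⊓ V' ≤ V) : Γ(X, V) →* Γ(X, V ⊓ V')) a *
      Units.map (ores (inf_le_right : V ⊓ V' ≤ V') : Γ(X, V') →* Γ(X, V ⊓ V')) b, ?_, ?_⟩
  · have e1 := congrArg (res L (inf_le_left : V ⊓ V' ≤ V)) ha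
    have e2 := congrArg (res L' (inf_le_right : V ⊓ V' ≤ V')) hb
    rw [res_smul, res_res, res_res] at e1 e2
    rw [res_tmul, res_tmul, res_res, res_res, res_res, res_res, e1, e2, smul_tmul, tmul_smul, smul_smul]
    rfl
  · apply Units.ext
    rw [coe_gu, Units.val_mul, Units.val_mul, coe_gu, coe_gu, map_mul]
    exact congrArg₂ (· * ·) (gg_ores inf_le_left _ _) (gg_ores inf_le_right _ _)

lemma RepM.pullback {L : Y.Modules} {D : Dvs Y} (h : RepM L D) (f : X ⟶ Y) (hf : Dom f) :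
    RepM ((Scheme.Modules.pullback f).obj L) (pl f hf D) := by
  obtain ⟨V₀, s₀, hη, hs₀, h⟩ := h
  have hmem : ∀ {U : Y.Opens}, genericPoint Y ∈ U → genericPoint X ∈ f ⁻¹ᵁ U := by
    intro U hU
    change f (genericPoint X) ∈ U
    rw [hf]; exact hU
  refine ⟨f ⁻¹ᵁ V₀, pullSec f s₀, hmem hη, hs₀.pullSec f, ?_⟩
  intro p
  obtain ⟨W, e, c, hp, he, hc, hD⟩ := h (f p)
  refine ⟨f ⁻¹ᵁ W, pullSec f e, sgU f hf c, hp, he.pullSec f, ?_, pl_apply f hf D p c hD⟩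
  obtain ⟨V, hV, hVW, hVV₀, a, ha, rfl⟩ := hc
  refine ⟨f ⁻¹ᵁ V, hmem hV, f.preimage_mono hVW, f.preimage_mono hVV₀,
    Units.map ((f.app V).hom : Γ(Y, V) →* Γ(X, f ⁻¹ᵁ V)) a, ?_, ?_⟩
  · rw [res_pullSec f hVW, res_pullSec f hVV₀, ha, pullSec_smul]
    rfl
  · apply Units.ext
    rw [coe_gu, coe_sgU, coe_gu, sg_gg f hf hV (hmem hV)]
    rfl

lemma RepM.of_iso {L L' : X.Modules} {D : Dvs X} (h : RepM L D) (φ : L ≅ L') : RepM L' D := by
  obtain ⟨V₀, s₀, hη, hs₀, h⟩ := h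
  refine ⟨V₀, φ.hom.app V₀ s₀, hη, hs₀.app φ.hom, ?_⟩
  intro p
  obtain ⟨W, e, c, hp, he, hc, hD⟩ := h p
  refine ⟨W, φ.hom.app W e, c, hp, he.app φ.hom, ?_, hD⟩
  obtain ⟨V, hV, hVW, hVV₀, a, ha, rfl⟩ := hc
  refine ⟨V, hV, hVW, hVV₀, a, ?_, rfl⟩
  rw [← app_res, ← app_res, ha, Scheme.Modules.Hom.app_smul]

lemma repM_one : RepM (Coh.structureModule X) 1 := by
  refine ⟨⊤, one ⊤, trivial, isGen_one ⊤, fun p => ⟨⊤, one ⊤, 1, trivial, isGen_one ⊤, ?_, rfl⟩⟩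
  refine ⟨⊤, trivial, le_rfl, le_rfl, 1, ?_, map_one _⟩
  rw [Units.val_one, one_smul]

/-- an invertible module with a principal representative is trivial -/
lemma RepM.trivial {L : X.Modules} (h : RepM L 1) : Nonempty (L ≅ Coh.structureModule X) := by
  obtain ⟨V₀, s₀, hη, hs₀, h⟩ := h
  -- local generators `e p` with `e p / s₀ = 1`
  have h1 : ∀ p : X, ∃ (W : X.Opens) (e : Γ(L, W)), p ∈ W ∧ IsGen e ∧ IsRatio e s₀ 1 := by
    intro p
    obtain ⟨W, e, c, hp, he, hc, hD⟩ := h p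
    have hc1 : c ∈ UU X p := by
      rw [Dvs.one_apply] at hD
      exact (QuotientGroup.eq_one_iff c).mp hD.symm
    obtain ⟨a, ha⟩ := mem_UU_iff.mp hc1
    -- `a` is the germ of a unit section near `p`
    obtain ⟨U, hpU, s, hs⟩ := X.presheaf.exists_germ_eq (a : X.presheaf.stalk p)
    obtain ⟨U', hpU', s', hs'⟩ := X.presheaf.exists_germ_eq ((a⁻¹ : (X.presheaf.stalk p)ˣ) : X.presheaf.stalk p)
    have hpV : p ∈ U ⊓ U' := ⟨hpU, hpU'⟩
    have hηV : genericPoint X ∈ U ⊓ U' := genericPoint_mem hpV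
    have e1 : gg (genericPoint_mem hpU) s = c := by
      rw [← ha, ← hs]
      exact (toK_germ hpU s _).symm
    have e2 : gg (genericPoint_mem hpU') s' = ((c⁻¹ : X.functionFieldˣ) : X.functionField) := by
      have : toK X p ((a⁻¹ : (X.presheaf.stalk p)ˣ) : X.presheaf.stalk p) =
          ((c⁻¹ : X.functionFieldˣ) : X.functionField) := by
        rw [Units.val_inv_eq_inv_val]
        apply eq_inv_of_mul_eq_one_left
        rw [← ha, ← map_mul, Units.inv_mul, map_one]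
      rw [← this, ← hs']
      exact (toK_germ hpU' s' _).symm
    have h2 : ores (inf_le_left : U ⊓ U' ≤ U) s * ores inf_le_right s' = 1 := by
      apply germ_injective_of_isIntegral X (genericPoint X) (U := U ⊓ U') hηV
      rw [map_one]
      have : gg hηV (ores (inf_le_left : U ⊓ U' ≤ U) s * ores inf_le_right s') = 1 := by
        rw [map_mul, gg_ores, gg_ores, e1, e2, Units.mul_inv]
      exact this
    let b : (Γ(X, U ⊓ U'))ˣ := Units.mkOfMulEqOne _ _ h2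
    have hb : gu hηV b = c := by
      apply Units.ext
      rw [coe_gu, Units.val_mkOfMulEqOne, gg_ores, e1]
    let b' : (Γ(X, W ⊓ (U ⊓ U')))ˣ :=
      Units.map (ores (inf_le_right : W ⊓ (U ⊓ U') ≤ U ⊓ U') : Γ(X, U ⊓ U') →* Γ(X, W ⊓ (U ⊓ U'))) b⁻¹
    refine ⟨W ⊓ (U ⊓ U'), (b' : Γ(X, W ⊓ (U ⊓ U'))) • res L (inf_le_left : W ⊓ (U ⊓ U') ≤ W) e, ⟨hp, hpV⟩,
      (he.res _).unit_smul (Units.isUnit _), ?_⟩
    have h3 : IsRatio ((b' : Γ(X, W ⊓ (U ⊓ U'))) • res L (inf_le_left : W ⊓ (U ⊓ U') ≤ W) e) e c⁻¹ := by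
      refine ⟨W ⊓ (U ⊓ U'), ⟨genericPoint_mem hp, hηV⟩, le_rfl, inf_le_left, b', ?_, ?_⟩
      · rw [res_refl]
      · rw [← hb, ← map_inv]
        apply Units.ext
        rw [coe_gu, coe_gu]
        exact gg_ores inf_le_right _ _
    have h4 := h3.trans hc
    rwa [inv_mul_cancel] at h4
  choose W e hW he hr using h1
  -- the `e p` glue
  have hcov : (⊤ : X.Opens) ≤ iSup W := fun p _ => Opens.mem_iSup.mpr ⟨p, hW p⟩
  have hagree : ∀ p q : X, res L (inf_le_left : W p ⊓ W q ≤ W p) (e p) = res L inf_le_right (e q) := by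
    intro p q
    obtain ⟨a, ha, hae⟩ := ((he q).res (inf_le_right : W p ⊓ W q ≤ W q)).exists_unit
      ((he p).res (inf_le_left : W p ⊓ W q ≤ W p))
    obtain ⟨a, rfl⟩ := ha
    have hη' : genericPoint X ∈ W p ⊓ W q := ⟨genericPoint_mem (hW p), genericPoint_mem (hW q)⟩
    have h5 : IsRatio (e p) (e q) (gu hη' a) := ⟨W p ⊓ W q, hη', inf_le_left, inf_le_right, a, hae, rfl⟩
    have h6 : IsRatio (e p) (e q) (1 * 1⁻¹) := (hr p).trans (hr q).symm
    have h7 := h5.unique (he q) h6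
    rw [inv_one, mul_one] at h7
    have h8 : (a : Γ(X, W p ⊓ W q)) = 1 := by
      apply germ_injective_of_isIntegral X (genericPoint X) hη'
      rw [map_one]
      have := congrArg (fun z : X.functionFieldˣ => (z : X.functionField)) h7
      exact this
    rw [hae, h8, one_smul]
  obtain ⟨t, ht⟩ := res_glue L W (fun _ => le_top) hcov e hagree
  have htg : IsGen t := IsGen.of_cover W (fun _ => le_top) hcov (fun p => by rw [ht]; exact he p)
  have : IsIso (homOf t) := by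
    rw [isIso_iff_isGen, sec_homOf, res_refl]
    exact htg
  exact ⟨(asIso (homOf t)).symm⟩

/-- the family `D` of local equations represents the class `P` -/
def Rep (P : Pic X) (D : Dvs X) : Prop := ∃ (L : X.Modules) (hL : PicF.IsInvertible L), P = mk L hL ∧ RepM L D

lemma exists_rep (P : Pic X) : ∃ D, Rep P D := by
  obtain ⟨L, hL, rfl⟩ := exists_mk P
  obtain ⟨D, hD⟩ := exists_repM hL
  exact ⟨D, L, hL, rfl, hD⟩

lemma Rep.mul {P P' : Pic X} {D D' : Dvs X} (h : Rep P D) (h' : Rep P' D') : Rep (P * P') (D * D') := by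
  obtain ⟨L, hL, rfl, h⟩ := h
  obtain ⟨L', hL', rfl, h'⟩ := h'
  exact ⟨_, isInvertible_tensorMod hL hL', mk_mul_mk hL hL', h.tensor h'⟩

lemma Rep.mul_dv {P : Pic X} {D : Dvs X} (h : Rep P D) (φ : X.functionFieldˣ) : Rep P (D * dv φ) := by
  obtain ⟨L, hL, rfl, h⟩ := h
  exact ⟨L, hL, rfl, h.mul_dv φ⟩

lemma rep_one : Rep (1 : Pic X) 1 := ⟨_, isInvertible_structureModule, one_def, repM_one⟩

lemma rep_dv (φ : X.functionFieldˣ) : Rep (1 : Pic X) (dv φ) := by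
  have := (rep_one (X := X)).mul_dv φ
  rwa [one_mul] at this

lemma Rep.exists_dv {P : Pic X} {D D' : Dvs X} (h : Rep P D) (h' : Rep P D') : ∃ φ, D = D' * dv φ := by
  obtain ⟨L, hL, rfl, h⟩ := h
  obtain ⟨L', hL', hPP', h'⟩ := h'
  obtain ⟨i⟩ := (mk_eq_iff hL hL').mp hPP'
  exact (h.of_iso i).exists_dv h'

lemma Rep.exists_dv_of_one {D : Dvs X} (h : Rep (1 : Pic X) D) : ∃ φ, D = dv φ := by
  obtain ⟨φ, hφ⟩ := h.exists_dv rep_one
  exact ⟨φ, by rw [hφ, one_mul]⟩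

lemma Rep.eq_one {P : Pic X} {φ : X.functionFieldˣ} (h : Rep P (dv φ)) : P = 1 := by
  have h1 := h.mul_dv φ⁻¹
  rw [← map_mul, mul_inv_cancel, map_one] at h1
  obtain ⟨L, hL, rfl, h2⟩ := h1
  rw [mk_eq_one_iff]
  exact h2.trivial

lemma Rep.inv {P : Pic X} {D : Dvs X} (h : Rep P D) : Rep P⁻¹ D⁻¹ := by
  obtain ⟨D', hD'⟩ := exists_rep P⁻¹
  have h1 := h.mul hD'
  rw [mul_inv_cancel] at h1
  obtain ⟨φ, hφ⟩ := h1.exists_dv_of_one
  have h2 := hD'.mul_dv φ⁻¹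
  have h3 : D' * dv φ⁻¹ = D⁻¹ := by
    rw [map_inv, ← hφ, mul_inv, mul_comm D⁻¹, ← mul_assoc, mul_inv_cancel, one_mul]
  rwa [h3] at h2

lemma Rep.pull {P : Pic Y} {D : Dvs Y} (h : Rep P D) (f : X ⟶ Y) (hf : Dom f) :
    Rep (Groth.Agent.Grpsch.PicGrp.pull f P) (pl f hf D) := by
  obtain ⟨L, hL, rfl, h⟩ := h
  exact ⟨_, isInvertible_pullback f hL, pull_mk f hL, h.pullback f hf⟩

/-- the class is determined by the divisor modulo principal divisors -/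
lemma Rep.eq {P P' : Pic X} {D D' : Dvs X} (h : Rep P D) (h' : Rep P' D') {φ : X.functionFieldˣ}
    (hD : D = D' * dv φ) : P = P' := by
  have h1 := h.mul h'.inv
  have h2 : D * D'⁻¹ = dv φ := by
    rw [hD, mul_comm D', mul_assoc, mul_inv_cancel, mul_one]
  rw [h2] at h1
  exact eq_of_mul_inv_eq_one h1.eq_one

end Groth.Agent.Sga7.H730.PicDv
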