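import Groth.Agent.Sga7.H730.PicDv

/-!
# Restriction of functions and divisors along a non-dominant morphism

`i : Z ⟶ X` a morphism of integral schemes.
* `Rs i φ ψ`: the function `φ` on `X` is a unit near `i η_Z` and `ψ` is its restriction to `Z`.
* `SpR i D E`: the divisor `D` is trivial at `i η_Z` and `E` is its restriction.
-/

set_option autoImplicit false
universe u

open AlgebraicGeometry CategoryTheory CategoryTheory.Limits TopologicalSpace Opposite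
open Groth.Agent.Dix.Center Groth.Agent.Grpsch.GrowthFF Groth.Agent.Fdesc.LocGen
open Groth.Agent.Grpsch.PicGrp

namespace Groth.Agent.Sga7.H730.Sp

open Dv PicDv

variable {X Y Z X' Z' : Scheme.{u}} [AlgebraicGeometry.IsIntegral X] [AlgebraicGeometry.IsIntegral Y]
  [AlgebraicGeometry.IsIntegral Z] [AlgebraicGeometry.IsIntegral X'] [AlgebraicGeometry.IsIntegral Z']

/-- evaluation of a section at the image of the generic point of `Z` -/
noncomputable def gi (f : Z ⟶ X) {U : X.Opens} (h : f (genericPoint Z) ∈ U) : Γ(X, U) →+* Z.functionField :=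
  (gg (U := f ⁻¹ᵁ U) h).comp (f.app U).hom

omit [AlgebraicGeometry.IsIntegral X] in
lemma gi_apply (f : Z ⟶ X) {U : X.Opens} (h : f (genericPoint Z) ∈ U) (s : Γ(X, U)) :
    gi f h s = gg (U := f ⁻¹ᵁ U) h ((f.app U).hom s) := rfl

omit [AlgebraicGeometry.IsIntegral X] in
lemma gi_ores (f : Z ⟶ X) {U V : X.Opens} (h : V ≤ U) (hV : f (genericPoint Z) ∈ V) (s : Γ(X, U)) :
    gi f hV (ores h s) = gi f (h hV) s := by
  rw [gi_apply, gi_apply]
  have h1 : (f.app V).hom (ores h s) = ores (f.preimage_mono h) ((f.app U).hom s) :=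
    DFunLike.congr_fun (congrArg CommRingCat.Hom.hom (f.naturality (homOfLE h).op)) s
  rw [h1]
  exact gg_ores (U := f ⁻¹ᵁ U) (V := f ⁻¹ᵁ V) (f.preimage_mono h) hV _

omit [AlgebraicGeometry.IsIntegral X] in
lemma gi_congr {f f' : Z ⟶ X} (hf : f = f') {U : X.Opens} (h : f (genericPoint Z) ∈ U)
    (h' : f' (genericPoint Z) ∈ U) (s : Γ(X, U)) : gi f h s = gi f' h' s := by subst hf; rfl

omit [AlgebraicGeometry.IsIntegral X] [AlgebraicGeometry.IsIntegral X'] in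
lemma gi_comp (f : Z ⟶ X') (u : X' ⟶ X) {U : X.Opens} (h : (f ≫ u) (genericPoint Z) ∈ U)
    (h' : f (genericPoint Z) ∈ u ⁻¹ᵁ U) (s : Γ(X, U)) :
    gi (f ≫ u) h s = gi f h' ((u.app U).hom s) := by
  rw [gi_apply, gi_apply, Scheme.Hom.comp_app]
  rfl

omit [AlgebraicGeometry.IsIntegral X] in
lemma gi_dom (v : Z' ⟶ Z) (hv : Dom v) (f : Z ⟶ X) {U : X.Opens} (h : (v ≫ f) (genericPoint Z') ∈ U)
    (h' : f (genericPoint Z) ∈ U) (s : Γ(X, U)) :
    gi (v ≫ f) h s = sg v hv (gi f h' s) := by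
  have hV : genericPoint Z' ∈ v ⁻¹ᵁ (f ⁻¹ᵁ U) := h
  rw [gi_comp v f h hV, gi_apply, gi_apply]
  exact (sg_gg v hv (U := f ⁻¹ᵁ U) h' hV _).symm

/-- a unit at `p` is the germ of a unit section near `p` -/
lemma exists_unit_section {p : X} {c : X.functionFieldˣ} (hc : c ∈ UU X p) :
    ∃ (V : X.Opens) (hp : p ∈ V) (b : (Γ(X, V))ˣ), gu (genericPoint_mem hp) b = c := by
  obtain ⟨a, ha⟩ := mem_UU_iff.mp hc
  obtain ⟨U, hpU, s, hs⟩ := X.presheaf.exists_germ_eq (a : X.presheaf.stalk p)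
  obtain ⟨U', hpU', s', hs'⟩ := X.presheaf.exists_germ_eq ((a⁻¹ : (X.presheaf.stalk p)ˣ) : X.presheaf.stalk p)
  have hpV : p ∈ U ⊓ U' := ⟨hpU, hpU'⟩
  have hηV : genericPoint X ∈ U ⊓ U' := genericPoint_mem hpV
  have e1 : gg (genericPoint_mem hpU) s = c := by
    rw [← ha, ← hs]
    exact (toK_germ hpU s _).symm
  have e2 : gg (genericPoint_mem hpU') s' = ((c⁻¹ : X.functionFieldˣ) : X.functionField) := by
    have : toK X p ((a⁻¹ : (X.presheaf.stalk p)ˣ) : X.presheaf.stalk p) =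
        ((c⁻¹ : X.functionFieldˣ) : X.functionField) := by
      rw [Units.val_inv_eq_inv_val]
      apply eq_inv_of_mul_eq_one_left
      rw [← ha, ← map_mul, Units.inv_mul, map_one]
    rw [← this, ← hs']
    exact (toK_germ hpU' s' _).symm
  have h2 : ores (inf_le_left : U ⊓ U' ≤ U) s * ores inf_le_right s' = 1 := by
    apply germ_injective_of_isIntegral X (genericPoint X) (U := U ⊓ U') hηV
    rw [map_one]
    have : gg hηV (ores (inf_le_left : U ⊓ U' ≤ U) s * ores inf_le_right s') = 1 := by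
      rw [map_mul, gg_ores, gg_ores, e1, e2, Units.mul_inv]
    exact this
  refine ⟨U ⊓ U', hpV, Units.mkOfMulEqOne _ _ h2, ?_⟩
  apply Units.ext
  rw [coe_gu, Units.val_mkOfMulEqOne, gg_ores, e1]

/-- `φ` is a unit near the image of the generic point of `Z`, with restriction `ψ` -/
def Rs (i : Z ⟶ X) (φ : X.functionFieldˣ) (ψ : Z.functionFieldˣ) : Prop :=
  ∃ (U : X.Opens) (hη : genericPoint X ∈ U) (hz : i (genericPoint Z) ∈ U) (s : (Γ(X, U))ˣ),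
    gu hη s = φ ∧ gi i hz (s : Γ(X, U)) = ψ

section

variable {i : Z ⟶ X}

lemma Rs.unique {φ : X.functionFieldˣ} {ψ ψ' : Z.functionFieldˣ} (h : Rs i φ ψ) (h' : Rs i φ ψ') : ψ = ψ' := by
  obtain ⟨U, hη, hz, s, hs, hψ⟩ := h
  obtain ⟨U', hη', hz', s', hs', hψ'⟩ := h'
  have hη'' : genericPoint X ∈ U ⊓ U' := ⟨hη, hη'⟩
  have hz'' : i (genericPoint Z) ∈ U ⊓ U' := ⟨hz, hz'⟩
  have h1 : gg hη'' (ores (inf_le_left : U ⊓ U' ≤ U) (s : Γ(X, U))) =
      gg hη'' (ores (inf_le_right : U ⊓ U' ≤ U') (s' : Γ(X, U'))) := by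
    rw [gg_ores, gg_ores]
    have := congrArg (fun z : X.functionFieldˣ => (z : X.functionField)) (hs.trans hs'.symm)
    exact this
  have h2 : ores (inf_le_left : U ⊓ U' ≤ U) (s : Γ(X, U)) = ores (inf_le_right : U ⊓ U' ≤ U') (s' : Γ(X, U')) :=
    germ_injective_of_isIntegral X (genericPoint X) hη'' h1
  apply Units.ext
  rw [← hψ, ← hψ', ← gi_ores i (inf_le_left : U ⊓ U' ≤ U) hz'', h2, gi_ores]

lemma Rs.mul {φ φ' : X.functionFieldˣ} {ψ ψ' : Z.functionFieldˣ} (h : Rs i φ ψ) (h' : Rs i φ' ψ') :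
    Rs i (φ * φ') (ψ * ψ') := by
  obtain ⟨U, hη, hz, s, hs, hψ⟩ := h
  obtain ⟨U', hη', hz', s', hs', hψ'⟩ := h'
  have hη'' : genericPoint X ∈ U ⊓ U' := ⟨hη, hη'⟩
  have hz'' : i (genericPoint Z) ∈ U ⊓ U' := ⟨hz, hz'⟩
  refine ⟨U ⊓ U', hη'', hz'',
    Units.map (ores (inf_le_left : U ⊓ U' ≤ U) : Γ(X, U) →* Γ(X, U ⊓ U')) s *
      Units.map (ores (inf_le_right : U ⊓ U' ≤ U') : Γ(X, U') →* Γ(X, U ⊓ U')) s', ?_, ?_⟩
  · rw [← hs, ← hs']
    apply Units.ext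
    rw [coe_gu, Units.val_mul, Units.val_mul, coe_gu, coe_gu, map_mul]
    exact congrArg₂ (· * ·) (gg_ores inf_le_left _ _) (gg_ores inf_le_right _ _)
  · rw [Units.val_mul, Units.val_mul, map_mul, ← hψ, ← hψ']
    exact congrArg₂ (· * ·) (gi_ores i inf_le_left _ _) (gi_ores i inf_le_right _ _)

lemma Rs.one : Rs i 1 1 :=
  ⟨⊤, trivial, trivial, 1, map_one _, by rw [Units.val_one, map_one, Units.val_one]⟩

lemma Rs.inv {φ : X.functionFieldˣ} {ψ : Z.functionFieldˣ} (h : Rs i φ ψ) : Rs i φ⁻¹ ψ⁻¹ := by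
  obtain ⟨U, hη, hz, s, hs, hψ⟩ := h
  refine ⟨U, hη, hz, s⁻¹, by rw [map_inv, hs], ?_⟩
  rw [Units.val_inv_eq_inv_val, ← hψ]
  exact eq_inv_of_mul_eq_one_left (by rw [← map_mul, Units.inv_mul, map_one])

lemma Rs.div {φ φ' : X.functionFieldˣ} {ψ ψ' : Z.functionFieldˣ} (h : Rs i φ ψ) (h' : Rs i φ' ψ') :
    Rs i (φ / φ') (ψ / ψ') := by
  rw [div_eq_mul_inv, div_eq_mul_inv]
  exact h.mul h'.inv

lemma specializes_i (i : Z ⟶ X) (p : Z) : i (genericPoint Z) ⤳ i p :=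
  (genericPoint_specializes Z p).map i.continuous

lemma mem_of_mem (i : Z ⟶ X) {p : Z} {U : X.Opens} (h : i p ∈ U) : i (genericPoint Z) ∈ U :=
  (specializes_i i p).mem_open U.2 h

/-- a unit at `i p` has a restriction, a unit at `p` -/
lemma exists_rs_of_mem {φ : X.functionFieldˣ} {p : Z} (h : φ ∈ UU X (i p)) :
    ∃ ψ, Rs i φ ψ ∧ ψ ∈ UU Z p := by
  obtain ⟨V, hp, b, hb⟩ := exists_unit_section h
  have hη : genericPoint Z ∈ i ⁻¹ᵁ V := mem_of_mem i hp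
  refine ⟨gu hη (Units.map ((i.app V).hom : Γ(X, V) →* Γ(Z, i ⁻¹ᵁ V)) b),
    ⟨V, genericPoint_mem hp, hη, b, hb, ?_⟩, gu_mem_UU hη (p := p) hp _⟩
  rw [coe_gu]
  rfl

lemma Rs.mem_UU {φ : X.functionFieldˣ} {ψ : Z.functionFieldˣ} (h : Rs i φ ψ) {p : Z} (hφ : φ ∈ UU X (i p)) :
    ψ ∈ UU Z p := by
  obtain ⟨ψ', h', hm⟩ := exists_rs_of_mem hφ
  rwa [h.unique h']

lemma exists_rs {φ : X.functionFieldˣ} (h : φ ∈ UU X (i (genericPoint Z))) : ∃ ψ, Rs i φ ψ := by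
  obtain ⟨ψ, h', -⟩ := exists_rs_of_mem h
  exact ⟨ψ, h'⟩

lemma Rs.mem_generic {φ : X.functionFieldˣ} {ψ : Z.functionFieldˣ} (h : Rs i φ ψ) :
    φ ∈ UU X (i (genericPoint Z)) := by
  obtain ⟨U, hη, hz, s, hs, hψ⟩ := h
  rw [← hs]
  exact gu_mem_UU hη hz s

end

/-- restriction commutes with pull back, for a square `i' ≫ u = v ≫ i` with `u`, `v` dominant -/
lemma Rs.map {i : Z ⟶ X} {i' : Z' ⟶ X'} {u : X' ⟶ X} {v : Z' ⟶ Z} (hu : Dom u) (hv : Dom v)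
    (w : i' ≫ u = v ≫ i) {φ : X.functionFieldˣ} {ψ : Z.functionFieldˣ} (h : Rs i φ ψ) :
    Rs i' (sgU u hu φ) (sgU v hv ψ) := by
  obtain ⟨U, hη, hz, s, hs, hψ⟩ := h
  have hη' : genericPoint X' ∈ u ⁻¹ᵁ U := by
    change u (genericPoint X') ∈ U
    rw [hu]; exact hη
  have hz1 : (i' ≫ u) (genericPoint Z') ∈ U := by
    rw [w, Scheme.Hom.comp_apply, hv]
    exact hz
  have hz2 : (v ≫ i) (genericPoint Z') ∈ U := by rw [← w]; exact hz1
  have hz' : i' (genericPoint Z') ∈ u ⁻¹ᵁ U := hz1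
  refine ⟨u ⁻¹ᵁ U, hη', hz', Units.map ((u.app U).hom : Γ(X, U) →* Γ(X', u ⁻¹ᵁ U)) s, ?_, ?_⟩
  · apply Units.ext
    rw [coe_gu, coe_sgU, ← hs, coe_gu, sg_gg u hu hη hη']
    rfl
  · have h1 : gi i' hz' ((u.app U).hom (s : Γ(X, U))) = sg v hv (gi i hz (s : Γ(X, U))) := by
      rw [← gi_comp i' u hz1 hz', gi_congr w hz1 hz2, gi_dom v hv i hz2 hz]
    rw [coe_sgU, ← hψ, ← h1]
    rfl

/-- the divisor `E` is the restriction of `D` (which is trivial at the image of the generic point of `Z`) -/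
def SpR (i : Z ⟶ X) (D : Dvs X) (E : Dvs Z) : Prop :=
  ∀ p : Z, ∃ (c : X.functionFieldˣ) (d : Z.functionFieldˣ),
    D (i p) = QuotientGroup.mk c ∧ E p = QuotientGroup.mk d ∧ Rs i c d

section

variable {i : Z ⟶ X}

lemma SpR.mul {D D' : Dvs X} {E E' : Dvs Z} (h : SpR i D E) (h' : SpR i D' E') : SpR i (D * D') (E * E') := by
  intro p
  obtain ⟨c, d, hc, hd, hr⟩ := h p
  obtain ⟨c', d', hc', hd', hr'⟩ := h' p
  exact ⟨c * c', d * d', by rw [Dvs.mul_apply, hc, hc', ← QuotientGroup.mk_mul],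
    by rw [Dvs.mul_apply, hd, hd', ← QuotientGroup.mk_mul], hr.mul hr'⟩

lemma SpR.inv {D : Dvs X} {E : Dvs Z} (h : SpR i D E) : SpR i D⁻¹ E⁻¹ := by
  intro p
  obtain ⟨c, d, hc, hd, hr⟩ := h p
  exact ⟨c⁻¹, d⁻¹, by rw [Dvs.inv_apply, hc, ← QuotientGroup.mk_inv],
    by rw [Dvs.inv_apply, hd, ← QuotientGroup.mk_inv], hr.inv⟩

lemma SpR.div {D D' : Dvs X} {E E' : Dvs Z} (h : SpR i D E) (h' : SpR i D' E') : SpR i (D / D') (E / E') := by
  rw [div_eq_mul_inv, div_eq_mul_inv]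
  exact h.mul h'.inv

lemma SpR.dv {φ : X.functionFieldˣ} {ψ : Z.functionFieldˣ} (h : Rs i φ ψ) : SpR i (dv φ) (dv ψ) :=
  fun _ => ⟨φ, ψ, rfl, rfl, h⟩

lemma SpR.unique {D : Dvs X} {E E' : Dvs Z} (h : SpR i D E) (h' : SpR i D E') : E = E' := by
  ext p : 1
  obtain ⟨c, d, hc, hd, hr⟩ := h p
  obtain ⟨c', d', hc', hd', hr'⟩ := h' p
  rw [hd, hd', QuotientGroup.eq, ← div_eq_inv_mul]
  apply (hr'.div hr).mem_UU
  rw [div_eq_inv_mul, ← QuotientGroup.eq, ← hc, hc']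

lemma mk_transport {D : Dvs X} {p q : X} (h : p = q) {c : X.functionFieldˣ} (hc : D p = QuotientGroup.mk c) :
    D q = QuotientGroup.mk c := by subst h; exact hc

end

lemma SpR.map {i : Z ⟶ X} {i' : Z' ⟶ X'} {u : X' ⟶ X} {v : Z' ⟶ Z} (hu : Dom u) (hv : Dom v)
    (w : i' ≫ u = v ≫ i) {D : Dvs X} {E : Dvs Z} (h : SpR i D E) :
    SpR i' (pl u hu D) (pl v hv E) := by
  intro p
  obtain ⟨c, d, hc, hd, hr⟩ := h (v p)
  have hp : i (v p) = u (i' p) := by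
    rw [← Scheme.Hom.comp_apply, ← Scheme.Hom.comp_apply, w]
  exact ⟨sgU u hu c, sgU v hv d, pl_apply u hu D (i' p) c (mk_transport hp hc), pl_apply v hv E p d hd,
    hr.map hu hv w⟩

/-- restriction of a representative of an invertible module -/
lemma exists_spR_repM {L : X.Modules} {D : Dvs X} (h : RepM L D) (i : Z ⟶ X) (hD : D (i (genericPoint Z)) = 1) :
    ∃ E, SpR i D E ∧ RepM ((Scheme.Modules.pullback i).obj L) E := by
  obtain ⟨V₀, s₀, hη, hs₀, h⟩ := h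
  choose W e c hW he hc hDc using h
  -- a generator near `i η_Z` with ratio one
  obtain ⟨W', e', hW', he', hr'⟩ : ∃ (W' : X.Opens) (e' : Γ(L, W')), i (genericPoint Z) ∈ W' ∧ IsGen e' ∧
      IsRatio e' s₀ 1 := by
    have hcz : c (i (genericPoint Z)) ∈ UU X (i (genericPoint Z)) := by
      rw [hDc] at hD
      exact (QuotientGroup.eq_one_iff _).mp hD
    obtain ⟨V, hp, b, hb⟩ := exists_unit_section hcz
    have hηV : genericPoint X ∈ V := genericPoint_mem hp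
    set z := i (genericPoint Z) with hz
    let b' : (Γ(X, W z ⊓ V))ˣ := Units.map (ores (inf_le_right : W z ⊓ V ≤ V) : Γ(X, V) →* Γ(X, W z ⊓ V)) b⁻¹
    refine ⟨W z ⊓ V, (b' : Γ(X, W z ⊓ V)) • res L (inf_le_left : W z ⊓ V ≤ W z) (e z), ⟨hW z, hp⟩,
      ((he z).res _).unit_smul (Units.isUnit _), ?_⟩
    have h3 : IsRatio ((b' : Γ(X, W z ⊓ V)) • res L (inf_le_left : W z ⊓ V ≤ W z) (e z)) (e z) (c z)⁻¹ := by
      refine ⟨W z ⊓ V, ⟨genericPoint_mem (hW z), hηV⟩, le_rfl, inf_le_left, b', ?_, ?_⟩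
      · rw [res_refl]
      · rw [← hb, ← map_inv]
        apply Units.ext
        rw [coe_gu, coe_gu]
        exact gg_ores inf_le_right _ _
    have h4 := h3.trans (hc z)
    rwa [inv_mul_cancel] at h4
  -- the ratios `e p / e'` restrict to `Z`
  have key : ∀ p : Z, ∃ d : Z.functionFieldˣ, Rs i (c (i p)) d ∧
      IsRatio (pullSec i (e (i p))) (pullSec i e') d := by
    intro p
    obtain ⟨a, ha, hae⟩ := (he'.res (inf_le_right : W (i p) ⊓ W' ≤ W')).exists_unit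
      ((he (i p)).res (inf_le_left : W (i p) ⊓ W' ≤ W (i p)))
    obtain ⟨a, rfl⟩ := ha
    have hz : i (genericPoint Z) ∈ W (i p) ⊓ W' := ⟨mem_of_mem i (hW (i p)), hW'⟩
    have hη' : genericPoint X ∈ W (i p) ⊓ W' := genericPoint_mem hz
    have h5 : IsRatio (e (i p)) e' (gu hη' a) := ⟨W (i p) ⊓ W', hη', inf_le_left, inf_le_right, a, hae, rfl⟩
    have h6 : IsRatio (e (i p)) s₀ (gu hη' a * 1) := h5.trans hr'
    have h7 : c (i p) = gu hη' a := by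
      rw [(hc (i p)).unique hs₀ h6, mul_one]
    have hzz : genericPoint Z ∈ i ⁻¹ᵁ (W (i p) ⊓ W') := hz
    refine ⟨gu hzz (Units.map ((i.app (W (i p) ⊓ W')).hom : Γ(X, _) →* Γ(Z, _)) a), ?_, ?_⟩
    · rw [h7]
      exact ⟨W (i p) ⊓ W', hη', hz, a, rfl, rfl⟩
    · refine ⟨i ⁻¹ᵁ (W (i p) ⊓ W'), hzz, i.preimage_mono inf_le_left, i.preimage_mono inf_le_right,
        Units.map ((i.app (W (i p) ⊓ W')).hom : Γ(X, _) →* Γ(Z, _)) a, ?_, rfl⟩
      rw [res_pullSec i (inf_le_left : W (i p) ⊓ W' ≤ W (i p)), res_pullSec i (inf_le_right : W (i p) ⊓ W' ≤ W'),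
        hae, pullSec_smul]
      rfl
  choose d hd hd' using key
  exact ⟨fun p => QuotientGroup.mk (d p), fun p => ⟨c (i p), d p, hDc (i p), rfl, hd p⟩,
    i ⁻¹ᵁ W', pullSec i e', hW', he'.pullSec i,
    fun p => ⟨i ⁻¹ᵁ W (i p), pullSec i (e (i p)), d p, hW (i p), (he (i p)).pullSec i, hd' p, rfl⟩⟩

lemma exists_spR_rep {P : Pic X} {D : Dvs X} (h : Rep P D) (i : Z ⟶ X) (hD : D (i (genericPoint Z)) = 1) :
    ∃ E, SpR i D E ∧ Rep (Groth.Agent.Grpsch.PicGrp.pull i P) E := by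
  obtain ⟨L, hL, rfl, h⟩ := h
  obtain ⟨E, h1, h2⟩ := exists_spR_repM h i hD
  exact ⟨E, h1, _, isInvertible_pullback i hL, pull_mk i hL, h2⟩

/-- a representative which is trivial at a given point -/
lemma exists_rep_one (P : Pic X) (x : X) : ∃ D, Rep P D ∧ D x = 1 := by
  obtain ⟨D, hD⟩ := exists_rep P
  obtain ⟨c, hc⟩ := QuotientGroup.mk_surjective (D x)
  refine ⟨D * dv c⁻¹, hD.mul_dv _, ?_⟩
  rw [Dvs.mul_apply, dv_apply, ← hc, ← QuotientGroup.mk_mul, mul_inv_cancel]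
  rfl

end Groth.Agent.Sga7.H730.Sp
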